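import Groth.Agent.WildASLib.Basic
import Groth.Agent.CohenLib.FSRegular
import Groth.Agent.CommAlgDim.Integral
import Groth.Agent.CompleteLib.TwoIdeals

/-!
# The Artin–Schreier family over `k[[x₁, …, xₙ]]`
-/

set_option autoImplicit false

universe u

open MvPolynomial IsLocalRing

namespace WildASLib

variable {p : ℕ} [hp : Fact p.Prime] {k : Type u} [Field k] {n : ℕ}
  {a : Fin n → MvPowerSeries (Fin n) k}

/-- The family. -/
abbrev Fam (p : ℕ) (k : Type u) [Field k] (n : ℕ) (a : Fin n → MvPowerSeries (Fin n) k) :=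
  AS p a (fun i : Fin n => MvPowerSeries.X i)

/-- The ideal of the generators. -/
noncomputable def uIdeal (p : ℕ) (k : Type u) [Field k] (n : ℕ) (a : Fin n → MvPowerSeries (Fin n) k) :
    Ideal (Fam p k n a) :=
  Ideal.span (Set.range u)

theorem map_X_eq : Ideal.map (Ideal.Quotient.mk (rel p a (fun i : Fin n => MvPowerSeries.X i)))
    (Ideal.span (Set.range (MvPolynomial.X : Fin n → MvPolynomial (Fin n) (MvPowerSeries (Fin n) k)))) =
      uIdeal p k n a := by
  rw [uIdeal, Ideal.map_span, ← Set.range_comp]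
  rfl

theorem u_mem (i : Fin n) : (u i : Fam p k n a) ∈ uIdeal p k n a := Ideal.subset_span ⟨i, rfl⟩

theorem algebraMap_X_mem (i : Fin n) :
    algebraMap (MvPowerSeries (Fin n) k) (Fam p k n a) (MvPowerSeries.X i) ∈ uIdeal p k n a := by
  have h := u_pow (p := p) (a := a) (c := fun i : Fin n => MvPowerSeries.X i) i
  rw [eq_sub_iff_add_eq'.2 h.symm]
  exact sub_mem (Ideal.pow_mem_of_mem _ (u_mem i) p hp.out.pos) (Ideal.mul_mem_left _ _ (u_mem i))

theorem map_maximalIdeal_le : (maximalIdeal (MvPowerSeries (Fin n) k)).map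
    (algebraMap _ (Fam p k n a)) ≤ uIdeal p k n a := by
  rw [CohenLib.maximalIdeal_mvPowerSeries_field, CohenLib.varsIdeal, Ideal.map_span, Ideal.span_le]
  rintro _ ⟨_, ⟨i, rfl⟩, rfl⟩
  exact algebraMap_X_mem i

variable (ham : ∀ i, MvPowerSeries.constantCoeff (a i) = 0)

/-- The residue map. -/
noncomputable def res : Fam p k n a →+* k :=
  Ideal.Quotient.lift _ (MvPolynomial.eval₂Hom (MvPowerSeries.constantCoeff (σ := Fin n) (R := k)) 0)
    fun q hq => by
      have h : rel p a (fun i : Fin n => MvPowerSeries.X i) ≤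
          RingHom.ker (MvPolynomial.eval₂Hom (MvPowerSeries.constantCoeff (σ := Fin n) (R := k)) 0) := by
        refine Ideal.span_le.2 ?_
        rintro _ ⟨i, rfl⟩
        simp [MvPowerSeries.constantCoeff_X, hp.out.ne_zero]
      exact h hq

theorem exists_sub_mem (x : Fam p k n a) :
    ∃ r : MvPowerSeries (Fin n) k, x - algebraMap _ (Fam p k n a) r ∈ uIdeal p k n a := by
  induction x using induction_u with
  | hC r => exact ⟨r, by simp⟩
  | hadd x y hx hy =>
    obtain ⟨r, hr⟩ := hx; obtain ⟨s, hs⟩ := hy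
    exact ⟨r + s, by rw [map_add, add_sub_add_comm]; exact add_mem hr hs⟩
  | hu x i hx => exact ⟨0, by simpa using Ideal.mul_mem_left _ _ (u_mem i)⟩

theorem ker_res : RingHom.ker ((res (p := p) (a := a))) = uIdeal p k n a := by
  refine le_antisymm (fun x hx => ?_) (Ideal.span_le.2 ?_)
  · obtain ⟨r, hr⟩ := exists_sub_mem x
    have h1 : (res (p := p) (a := a)) (x - algebraMap _ (Fam p k n a) r) = 0 := by
      have : uIdeal p k n a ≤ RingHom.ker ((res (p := p) (a := a))) := Ideal.span_le.2 (by
        rintro _ ⟨i, rfl⟩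
        simp [res, u])
      exact this hr
    rw [map_sub, RingHom.mem_ker.1 hx, zero_sub, neg_eq_zero] at h1
    have h2 : MvPowerSeries.constantCoeff r = 0 := by simpa [res, ← mk_C] using h1
    have h3 : r ∈ maximalIdeal (MvPowerSeries (Fin n) k) := by
      rw [CohenLib.maximalIdeal_mvPowerSeries_field, ← CohenLib.ker_constantCoeff]; exact h2
    simpa using add_mem hr (map_maximalIdeal_le (Ideal.mem_map_of_mem _ h3))
  · rintro _ ⟨i, rfl⟩
    simp [res, u]

theorem isMaximal_uIdeal : (uIdeal p k n a).IsMaximal := by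
  rw [← ker_res]
  refine RingHom.ker_isMaximal_of_surjective _ fun c => ⟨algebraMap (MvPowerSeries (Fin n) k) _ (MvPowerSeries.C c), ?_⟩
  simp [res, ← mk_C]

include ham in
theorem eq_uIdeal_of_isMaximal (M : Ideal (Fam p k n a)) [hM : M.IsMaximal] : M = uIdeal p k n a := by
  refine ((isMaximal_uIdeal).eq_of_le hM.ne_top (Ideal.span_le.2 ?_)).symm
  rintro _ ⟨i, rfl⟩
  have h1 : (M.comap (algebraMap (MvPowerSeries (Fin n) k) (Fam p k n a))).IsMaximal :=
    Ideal.isMaximal_comap_of_isIntegral_of_isMaximal M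
  have h2 := IsLocalRing.eq_maximalIdeal h1
  have h3 : ∀ r : MvPowerSeries (Fin n) k, MvPowerSeries.constantCoeff r = 0 → algebraMap _ (Fam p k n a) r ∈ M := fun r hr => by
    rw [← Ideal.mem_comap, h2, CohenLib.maximalIdeal_mvPowerSeries_field, ← CohenLib.ker_constantCoeff]
    exact hr
  refine hM.isPrime.mem_of_pow_mem p ?_
  rw [u_pow]
  refine add_mem (Ideal.mul_mem_right _ _ (h3 _ ?_)) (h3 _ (MvPowerSeries.constantCoeff_X i))
  rw [map_pow, ham i, zero_pow]
  have := hp.out.two_le
  omega

include ham in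
theorem isLocalRing : IsLocalRing (Fam p k n a) :=
  IsLocalRing.of_unique_max_ideal
    ⟨uIdeal p k n a, isMaximal_uIdeal, fun M hM => haveI := hM; eq_uIdeal_of_isMaximal ham M⟩

theorem isNoetherianRing : IsNoetherianRing (Fam p k n a) :=
  IsNoetherianRing.of_finite (MvPowerSeries (Fin n) k) _

include ham in
theorem isRegularLocalRing : IsRegularLocalRing (Fam p k n a) := by
  haveI := isLocalRing (p := p) ham
  haveI := isNoetherianRing (p := p) (a := a)
  haveI : Algebra.IsIntegral (MvPowerSeries (Fin n) k) (Fam p k n a) := Algebra.IsIntegral.of_finite _ _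
  rw [isRegularLocalRing_iff]
  have hd : ringKrullDim (Fam p k n a) = n := by
    rw [CommAlgDim.ringKrullDim_eq_of_integral _ _ (algebraMap_injective (p := p)),
      CohenLib.ringKrullDim_mvPowerSeries_field]
  refine le_antisymm ?_ (ringKrullDim_le_spanFinrank_maximalIdeal _)
  rw [hd, ← IsLocalRing.eq_maximalIdeal (isMaximal_uIdeal)]
  norm_cast
  refine (Submodule.spanFinrank_span_le_ncard_of_finite (Set.finite_range _)).trans ?_
  rw [← Set.image_univ]
  exact (Set.ncard_image_le Set.finite_univ).trans (by simp)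

include ham in
theorem isDomain : IsDomain (Fam p k n a) :=
  haveI := isRegularLocalRing (p := p) ham
  CommAlgDim.isDomain_of_isRegularLocalRing _

theorem isAdicComplete_of_pow_eq_bot {A : Type*} [CommRing A] {J : Ideal A} {N : ℕ} (h : J ^ N = ⊥) :
    IsAdicComplete J A where
  haus' x hx := by simpa [h, SModEq.sub_mem] using hx N
  prec' f hf := ⟨f N, fun m => by
    rcases le_total m N with hm | hm
    · exact hf hm
    · have h1 := hf hm
      simp only [h, SModEq.sub_mem, Submodule.bot_smul, Submodule.mem_bot, sub_eq_zero] at h1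
      rw [h1]⟩

include ham in
theorem isAdicComplete : IsAdicComplete (uIdeal p k n a) (Fam p k n a) := by
  let R := MvPowerSeries (Fin n) k
  haveI := isNoetherianRing (p := p) (a := a)
  haveI hR : IsAdicComplete (maximalIdeal R) R := by
    rw [CohenLib.maximalIdeal_mvPowerSeries_field]; exact CohenLib.isAdicComplete_varsIdeal k
  haveI hA : IsAdicComplete (maximalIdeal R) (Fam p k n a) := CompleteLib.isAdicComplete_of_finite
  set I := (maximalIdeal R).map (algebraMap R (Fam p k n a))
  haveI : IsAdicComplete I (Fam p k n a) := (IsAdicComplete.map_algebraMap_iff _ _).2 hA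
  obtain ⟨N, hN⟩ : ∃ N, uIdeal p k n a ^ N ≤ I := by
    refine Ideal.exists_pow_le_of_le_radical_of_fg ?_ (IsNoetherian.noetherian _)
    refine Ideal.span_le.2 ?_
    rintro _ ⟨i, rfl⟩
    refine ⟨p, ?_⟩
    rw [u_pow]
    have h3 : ∀ r : MvPowerSeries (Fin n) k, MvPowerSeries.constantCoeff r = 0 → algebraMap R (Fam p k n a) r ∈ I := fun r hr => by
      refine Ideal.mem_map_of_mem _ ?_
      rw [CohenLib.maximalIdeal_mvPowerSeries_field, ← CohenLib.ker_constantCoeff]
      exact hr
    refine add_mem (Ideal.mul_mem_right _ _ (h3 _ ?_)) (h3 _ (MvPowerSeries.constantCoeff_X i))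
    rw [map_pow, ham i, zero_pow]
    have := hp.out.two_le
    omega
  haveI : IsAdicComplete ((uIdeal p k n a).map (Ideal.Quotient.mk I)) (Fam p k n a ⧸ I) := by
    refine isAdicComplete_of_pow_eq_bot (N := N) ?_
    rw [← Ideal.map_pow]
    rw [Ideal.map_eq_bot_iff_le_ker, Ideal.mk_ker]; exact hN
  exact CompleteLib.isAdicComplete_of_quotient I _

end WildASLib
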