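import Groth.Agent.WildASLib.Basic
import Mathlib.Algebra.CharP.Lemmas
import Mathlib.FieldTheory.Finite.Basic

/-!
# Translations of an Artin–Schreier algebra
-/

set_option autoImplicit false

universe u v

open MvPolynomial

namespace WildASLib

variable {R : Type u} [CommRing R] {ι : Type v} {p : ℕ} [hp : Fact p.Prime] [CharP R p] {a c : ι → R}

/-- The prime field. -/
noncomputable abbrev prime (p : ℕ) (R : Type u) [CommRing R] [CharP R p] : ZMod p →+* R :=
  ZMod.castHom (dvd_refl p) R

theorem charP_as [Fintype ι] : CharP (AS p a c) p :=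
  charP_of_injective_algebraMap algebraMap_injective p

theorem translate_aux (b : R) (i : ι) (hb : b ^ p = a i ^ (p - 1) * b) [CharP (AS p a c) p] :
    (u i + algebraMap R (AS p a c) b) ^ p = algebraMap R (AS p a c) (a i ^ (p - 1)) *
      (u i + algebraMap R (AS p a c) b) + algebraMap R (AS p a c) (c i) := by
  rw [add_pow_char, u_pow, ← map_pow, hb, map_mul]
  ring

variable [Fintype ι]

theorem prime_smul_root (ν : ι → ZMod p) (i : ι) :
    (prime p R (ν i) * a i) ^ p = a i ^ (p - 1) * (prime p R (ν i) * a i) := by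
  rw [mul_pow, ← map_pow, ZMod.pow_card, mul_left_comm, ← pow_succ,
    Nat.sub_add_cancel hp.out.one_le]

/-- The translation by a vector in the prime field. -/
noncomputable def tr (ν : ι → ZMod p) : AS p a c →ₐ[R] AS p a c :=
  haveI := charP_as (p := p) (a := a) (c := c)
  lift (fun i => u i + algebraMap R _ (prime p R (ν i) * a i)) fun i =>
    translate_aux _ i (prime_smul_root ν i)

@[simp] theorem tr_u (ν : ι → ZMod p) (i : ι) :
    tr ν (u i : AS p a c) = u i + algebraMap R _ (prime p R (ν i) * a i) := by simp [tr]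

theorem tr_zero : (tr (0 : ι → ZMod p) : AS p a c →ₐ[R] AS p a c) = AlgHom.id R _ :=
  algHom_ext fun i => by simp

theorem tr_add (ν μ : ι → ZMod p) :
    (tr (ν + μ) : AS p a c →ₐ[R] AS p a c) = (tr ν).comp (tr μ) :=
  algHom_ext fun i => by simp [add_mul, add_assoc]

/-- The translation as an automorphism. -/
noncomputable def trEquiv (ν : ι → ZMod p) : AS p a c ≃ₐ[R] AS p a c :=
  AlgEquiv.ofAlgHom (tr ν) (tr (-ν)) (by rw [← tr_add, add_neg_cancel, tr_zero])
    (by rw [← tr_add, neg_add_cancel, tr_zero])

@[simp] theorem trEquiv_apply (ν : ι → ZMod p) (x : AS p a c) : trEquiv ν x = tr ν x := rfl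

/-- The translations, as a group homomorphism. -/
noncomputable def trHom : Multiplicative (ι → ZMod p) →* (AS p a c ≃ₐ[R] AS p a c) where
  toFun ν := trEquiv ν.toAdd
  map_one' := AlgEquiv.ext fun x => by simp [tr_zero]
  map_mul' ν μ := AlgEquiv.ext fun x => by simp [tr_add]

theorem trEquiv_pow (ν : ι → ZMod p) (m : ℕ) :
    (trEquiv ν : AS p a c ≃ₐ[R] AS p a c) ^ m = trEquiv (m • ν) :=
  (map_pow (trHom : _ →* (AS p a c ≃ₐ[R] AS p a c)) (Multiplicative.ofAdd ν) m).symm

theorem trEquiv_injective [IsDomain R] (ha : ∀ i, a i ≠ 0) :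
    Function.Injective (trEquiv : (ι → ZMod p) → (AS p a c ≃ₐ[R] AS p a c)) := fun ν μ h => by
  funext i
  have h1 := congrArg (fun σ : AS p a c ≃ₐ[R] AS p a c => σ (u i)) h
  simp only [trEquiv_apply, tr_u, add_right_inj] at h1
  exact (prime p R).injective (mul_right_cancel₀ (ha i) (algebraMap_injective h1))

theorem exists_eq_trEquiv [IsDomain R] [IsDomain (AS p a c)] (ha : ∀ i, a i ≠ 0)
    (σ : AS p a c ≃ₐ[R] AS p a c) : ∃ ν, σ = trEquiv ν := by
  classical
  haveI := charP_as (p := p) (a := a) (c := c)
  have key : ∀ i, ∃ j : ZMod p, σ (u i) = u i + algebraMap R _ (prime p R j * a i) := by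
    intro i
    by_contra hcon
    push Not at hcon
    set α := algebraMap R (AS p a c) (a i) with hα
    let f : Polynomial (AS p a c) :=
      Polynomial.X ^ p - Polynomial.C (α ^ (p - 1)) * Polynomial.X
    let r : ZMod p → AS p a c := fun j => algebraMap R _ (prime p R j * a i)
    have hdeg : (Polynomial.C (α ^ (p - 1)) * Polynomial.X).degree < ((p : ℕ) : WithBot ℕ) :=
      lt_of_le_of_lt (Polynomial.degree_C_mul_X_le _) (by exact_mod_cast hp.out.one_lt)
    have hf : f.Monic := Polynomial.monic_X_pow_sub hdeg
    have hfd : f.natDegree = p := Polynomial.natDegree_eq_of_degree_eq_some (by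
      rw [Polynomial.degree_sub_eq_left_of_degree_lt] <;> rw [Polynomial.degree_X_pow]
      exact hdeg)
    have hroot : ∀ j, f.IsRoot (r j) := fun j => by
      show f.eval (r j) = 0
      simp only [f, r, Polynomial.eval_sub, Polynomial.eval_pow, Polynomial.eval_X, Polynomial.eval_mul,
        Polynomial.eval_C, hα, ← map_pow, ← map_mul, ← map_sub]
      rw [prime_smul_root (fun _ => j) i, sub_self, map_zero]
    have hd : f.IsRoot (σ (u i) - u i) := by
      show f.eval _ = 0
      simp only [f, Polynomial.eval_sub, Polynomial.eval_pow, Polynomial.eval_X, Polynomial.eval_mul,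
        Polynomial.eval_C, hα, sub_pow_char]
      rw [← map_pow σ, u_pow, map_add, map_mul, AlgEquiv.commutes, AlgEquiv.commutes, map_pow]
      ring
    let s : Finset (AS p a c) := insert (σ (u i) - u i) (Finset.univ.image r)
    have hs : s.card ≤ f.natDegree := Polynomial.card_le_degree_of_subset_roots fun z hz => by
      rw [Polynomial.mem_roots hf.ne_zero]
      simp only [s, Finset.mem_val, Finset.mem_insert, Finset.mem_image, Finset.mem_univ, true_and] at hz
      rcases hz with rfl | ⟨j, rfl⟩
      exacts [hd, hroot j]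
    rw [Finset.card_insert_of_notMem (by
      simp only [Finset.mem_image, Finset.mem_univ, true_and, not_exists, r]
      exact fun j hj => hcon j (by rw [hj]; ring)),
      Finset.card_image_of_injective _ (fun x y h => (prime p R).injective
        (mul_right_cancel₀ (ha i) (algebraMap_injective h))),
      Finset.card_univ, ZMod.card, hfd] at hs
    omega
  choose ν hν using key
  refine ⟨ν, AlgEquiv.ext fun x => ?_⟩
  exact DFunLike.congr_fun (algHom_ext (φ := σ.toAlgHom) (ψ := tr ν) fun i => by simp [hν]) x

theorem card_algEquiv [IsDomain R] [IsDomain (AS p a c)] (ha : ∀ i, a i ≠ 0) :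
    Nat.card (AS p a c ≃ₐ[R] AS p a c) = p ^ Fintype.card ι := by
  classical
  have hb : Function.Bijective (trEquiv : (ι → ZMod p) → (AS p a c ≃ₐ[R] AS p a c)) :=
    ⟨trEquiv_injective ha, fun σ => (exists_eq_trEquiv ha σ).imp fun _ h => h.symm⟩
  rw [← Nat.card_eq_of_bijective _ hb, Nat.card_eq_fintype_card, Fintype.card_fun, ZMod.card]

omit [CharP R p] hp [Fintype ι] in
theorem smul_eq (r : R) (x : AS p a c) : r • x = algebraMap R (AS p a c) r * x := by
  obtain ⟨q, rfl⟩ := Ideal.Quotient.mk_surjective x
  show Ideal.Quotient.mk _ (r • q) = _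
  rw [MvPolynomial.smul_eq_C_mul, map_mul, mk_C]

omit [CharP R p] in
/-- A translate of a monomial in one variable. -/
theorem map_mon [DecidableEq ι] {i : ι} {b : R} (T : AS p a c →ₐ[R] AS p a c)
    (hi : T (u i) = u i + algebraMap R _ b) (hj : ∀ j, j ≠ i → T (u j) = u j) (e : ι → Fin p) :
    T (mon e) = ∑ m : Fin p, (((e i : ℕ).choose m : R) * b ^ ((e i : ℕ) - m)) •
      mon (Function.update e i m) := by
  have hupd : ∀ (m : Fin p), (mon (Function.update e i m) : AS p a c) =
      (∏ j ∈ Finset.univ.erase i, u j ^ (e j : ℕ)) * u i ^ (m : ℕ) := fun m => by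
    rw [mon, ← Finset.prod_erase_mul _ _ (Finset.mem_univ i), Function.update_self]
    refine congrArg (· * _) (Finset.prod_congr rfl fun j hj => ?_)
    rw [Function.update_of_ne (Finset.ne_of_mem_erase hj)]
  simp only [hupd]
  rw [mon, map_prod, ← Finset.prod_erase_mul _ _ (Finset.mem_univ i), map_pow, hi,
    Finset.prod_congr rfl (fun j hj' => by rw [map_pow, hj j (Finset.ne_of_mem_erase hj')]),
    add_pow, Finset.mul_sum, Finset.sum_fin_eq_sum_range]
  rw [← Finset.sum_subset (Finset.range_subset_range.2 (Nat.succ_le_of_lt (e i).isLt))]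
  · refine Finset.sum_congr rfl fun m hm => ?_
    rw [Finset.mem_range] at hm
    rw [dif_pos (lt_of_lt_of_le hm (e i).isLt)]
    rw [smul_eq]
    rw [map_mul, map_pow, map_natCast]
    ring
  · intro m hm hm'
    rw [Finset.mem_range] at hm hm'
    rw [dif_pos hm, Nat.choose_eq_zero_of_lt (show (e i : ℕ) < m by omega), Nat.cast_zero, zero_mul]
    exact zero_smul R _

/-- Elements fixed by a translation in the variable `i` do not involve that variable. -/
theorem repr_eq_zero_of_fixed [IsDomain R] {i : ι} {b : R} (hb : b ≠ 0) (T : AS p a c →ₐ[R] AS p a c)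
    (hi : T (u i) = u i + algebraMap R _ b) (hj : ∀ j, j ≠ i → T (u j) = u j)
    {t : AS p a c} (ht : T t = t) {e : ι → Fin p} (he : (e i : ℕ) ≠ 0) : basis.repr t e = 0 := by
  classical
  by_contra hne
  let S := Finset.univ.filter fun f : ι → Fin p => basis.repr t f ≠ 0 ∧ (f i : ℕ) ≠ 0
  obtain ⟨e₀, he₀, hmax⟩ := Finset.exists_max_image S (fun f => (f i : ℕ))
    ⟨e, Finset.mem_filter.2 ⟨Finset.mem_univ _, hne, he⟩⟩
  simp only [S, Finset.mem_filter, Finset.mem_univ, true_and] at he₀ hmax
  set d := (e₀ i : ℕ) with hd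
  have hdlt : d - 1 < p := lt_of_le_of_lt (Nat.sub_le _ _) (e₀ i).isLt
  let f : ι → Fin p := Function.update e₀ i ⟨d - 1, hdlt⟩
  have h0 : basis.repr (T t - t) f = 0 := by rw [ht, sub_self]; simp
  have hterm : ∀ g, basis.repr t g * basis.repr (T (mon g) - mon g) f =
      if g = e₀ then basis.repr t g * ((d : R) * b) else 0 := by
    intro g
    rcases eq_or_ne (basis.repr t g) 0 with h | h
    · simp [h]
    have hfi : (f i : ℕ) = d - 1 := by simp [f]
    have hrep : ∀ g' : ι → Fin p, basis.repr (mon g' : AS p a c) f = if g' = f then 1 else 0 := fun g' => by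
      rw [← basis_apply, Module.Basis.repr_self, Finsupp.single_apply]
    have hg : basis.repr (T (mon g) - mon g) f =
        (((g i : ℕ).choose (d - 1) : R) * b ^ ((g i : ℕ) - (d - 1))) *
          (if Function.update g i ⟨d - 1, hdlt⟩ = f then 1 else 0) - if g = f then 1 else 0 := by
      rw [map_mon T hi hj, map_sub, map_sum, Finsupp.sub_apply, Finsupp.finsetSum_apply, hrep,
        Finset.sum_eq_single ⟨d - 1, hdlt⟩, map_smul, Finsupp.smul_apply, hrep, smul_eq_mul]
      · intro m _ hm
        rw [map_smul, Finsupp.smul_apply, hrep, if_neg (fun h' => hm ?_), smul_zero]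
        exact Fin.ext (by simpa [hfi] using congrArg Fin.val (congrFun h' i))
      · simp
    rw [hg]
    rcases eq_or_ne g e₀ with rfl | hge
    · have hne' : g ≠ f := fun h' => by
        have h3 := congrArg Fin.val (congrFun h' i)
        omega
      rw [if_pos (show Function.update g i ⟨d - 1, hdlt⟩ = f from rfl), if_pos rfl, if_neg hne',
        mul_one, sub_zero, ← hd, show d - (d - 1) = 1 by omega, pow_one, Nat.choose_symm
          (show 1 ≤ d by omega), Nat.choose_one_right]
    · rw [if_neg hge]
      have hgd : (g i : ℕ) ≤ d := by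
        rcases eq_or_ne (g i : ℕ) 0 with h' | h'
        · omega
        · exact hmax g ⟨h, h'⟩
      by_cases h2 : Function.update g i ⟨d - 1, hdlt⟩ = f
      · have hoff : ∀ j, j ≠ i → g j = e₀ j := fun j hji => by
          simpa [f, Function.update_of_ne hji] using congrFun h2 j
        have h3 : (g i : ℕ) ≠ d := fun h3 => hge (funext fun j => by
          rcases eq_or_ne j i with rfl | hji
          · exact Fin.ext h3
          · exact hoff j hji)
        rw [if_pos h2, mul_one]
        rcases Nat.lt_or_ge (g i : ℕ) (d - 1) with h4 | h4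
        · rw [Nat.choose_eq_zero_of_lt h4, if_neg (fun h' => by
            have := congrArg Fin.val (congrFun h' i)
            omega)]
          simp
        · have h5 : (g i : ℕ) = d - 1 := by omega
          rw [if_pos (funext fun j => by
            rcases eq_or_ne j i with rfl | hji
            · exact Fin.ext (by omega)
            · simp [f, Function.update_of_ne hji, hoff j hji]), h5, Nat.choose_self]
          simp
      · rw [if_neg h2, if_neg (fun h' => h2 (by subst h'; funext j; rcases eq_or_ne j i with rfl | hji <;>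
          simp [f, Function.update_of_ne, *]))]
        simp
  have hsum : basis.repr (T t - t) f = ∑ g, basis.repr t g * basis.repr (T (mon g) - mon g) f := by
    conv_lhs => rw [← basis.sum_repr t]
    simp [map_sum, map_sub, Finset.sum_sub_distrib, mul_sub]
  rw [hsum, Finset.sum_congr rfl fun g _ => hterm g, Finset.sum_ite_eq' _ e₀, if_pos (Finset.mem_univ _)]
    at h0
  rcases mul_eq_zero.1 h0 with h | h
  · exact he₀.1 h
  · rcases mul_eq_zero.1 h with h' | h'
    · rw [CharP.cast_eq_zero_iff R p] at h'
      have := Nat.le_of_dvd (by omega) h'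
      have := (e₀ i).isLt
      omega
    · exact hb h'

end WildASLib
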