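import Groth.Agent.WildASLib.Auts
import Mathlib.Algebra.SkewMonoidAlgebra.Basic
import Mathlib.RingTheory.OrzechProperty
import Mathlib.Algebra.Ring.Action.Subobjects

/-!
# The symmetrizing form on the skew group ring of an Artin–Schreier algebra
-/

set_option autoImplicit false

universe u v w

namespace WildASLib

variable {R : Type u} [CommRing R] {ι : Type v} [Fintype ι] {p : ℕ} [hp : Fact p.Prime] {a c : ι → R}

/-- The largest exponent. -/
def topExp : ι → Fin p := fun _ => ⟨p - 1, Nat.sub_lt hp.out.pos Nat.one_pos⟩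

/-- The coefficient of the top monomial. -/
noncomputable def tau : AS p a c →ₗ[R] R :=
  (Finsupp.lapply topExp).comp basis.repr.toLinearMap

theorem tau_mon [DecidableEq ι] (e : ι → Fin p) :
    tau (mon e : AS p a c) = if e = topExp then 1 else 0 := by
  rw [← basis_apply]
  simp [tau, Finsupp.single_apply, -basis_apply]

/-- Monomials with exponents below `p` in some variables only involve basis monomials with the same
exponents there. -/
theorem prod_pow_mem_span (m : ι → ℕ) :
    (∏ i, u i ^ m i : AS p a c) ∈ Submodule.span R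
      (mon '' {e : ι → Fin p | ∀ j, m j < p → (e j : ℕ) = m j}) := by
  classical
  induction hN : ∑ i, m i using Nat.strong_induction_on generalizing m with
  | _ N ih =>
    subst hN
    by_cases h : ∀ i, m i < p
    · exact Submodule.subset_span ⟨fun i => ⟨m i, h i⟩, fun j _ => rfl, rfl⟩
    push Not at h
    obtain ⟨i, hi⟩ := h
    have hfac : ∀ q : ℕ, (∏ j, u j ^ Function.update m i q j : AS p a c) =
        (∏ j ∈ Finset.univ.erase i, u j ^ m j) * u i ^ q := fun q => by
      rw [← Finset.prod_erase_mul _ _ (Finset.mem_univ i), Function.update_self]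
      exact congrArg (· * _) (Finset.prod_congr rfl fun j hj => by
        rw [Function.update_of_ne (Finset.ne_of_mem_erase hj)])
    have hsum : ∀ q, q < m i → ∑ j, Function.update m i q j < ∑ j, m j := fun q hq =>
      Finset.sum_lt_sum (fun j _ => by
        rcases eq_or_ne j i with rfl | hj
        · simpa using hq.le
        · simp [hj]) ⟨i, Finset.mem_univ _, by simpa using hq⟩
    have hle : ∀ q, q < m i → Submodule.span R (mon '' {e : ι → Fin p |
        ∀ j, Function.update m i q j < p → (e j : ℕ) = Function.update m i q j}) ≤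
        Submodule.span R ((mon : (ι → Fin p) → AS p a c) '' {e : ι → Fin p | ∀ j, m j < p → (e j : ℕ) = m j}) := by
      intro q _
      refine Submodule.span_mono (Set.image_mono fun e he j hj => ?_)
      have hji : j ≠ i := by rintro rfl; omega
      simpa [Function.update_of_ne hji] using he j (by simpa [Function.update_of_ne hji] using hj)
    have h1p := hp.out.two_le
    have key : (∏ j, u j ^ m j : AS p a c) =
        a i ^ (p - 1) • (∏ j, u j ^ Function.update m i (m i - p + 1) j : AS p a c) +
          c i • (∏ j, u j ^ Function.update m i (m i - p) j) := by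
      rw [hfac, hfac, smul_eq, smul_eq, ← Finset.prod_erase_mul _ _ (Finset.mem_univ i),
        show m i = m i - p + p by omega, pow_add, u_pow, pow_succ]
      simp only [show m i - p + p - p = m i - p by omega]
      ring
    rw [key]
    exact add_mem
      (Submodule.smul_mem _ _ (hle _ (by omega) (ih _ (hsum _ (by omega)) _ rfl)))
      (Submodule.smul_mem _ _ (hle _ (by omega) (ih _ (hsum _ (by omega)) _ rfl)))

theorem tau_mon_mul_mon [DecidableEq ι] (e f : ι → Fin p) (h : ∀ i, (f i : ℕ) ≤ e i → e i = f i) :
    tau (mon e * mon (fun i => Fin.rev (f i)) : AS p a c) = if e = f then 1 else 0 := by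
  have hm : (mon e * mon (fun i => Fin.rev (f i)) : AS p a c) =
      ∏ i, u i ^ ((e i : ℕ) + (Fin.rev (f i) : ℕ)) := by
    simp only [mon, ← Finset.prod_mul_distrib, pow_add]
  rcases eq_or_ne e f with rfl | hne
  · rw [if_pos rfl, hm]
    have : (∏ i, u i ^ ((e i : ℕ) + (Fin.rev (e i) : ℕ)) : AS p a c) = mon topExp :=
      Finset.prod_congr rfl fun i _ => by
        simp only [topExp, Fin.val_rev]
        congr 1
        have := (e i).isLt
        omega
    rw [this, tau_mon, if_pos rfl]
  rw [if_neg hne, hm]
  obtain ⟨i, hi⟩ := Function.ne_iff.1 hne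
  have hi' : (e i : ℕ) < f i := by
    by_contra h'
    exact hi (h i (not_lt.1 h'))
  have hlt : (e i : ℕ) + (Fin.rev (f i) : ℕ) < p - 1 := by
    rw [Fin.val_rev]; have := (f i).isLt; omega
  have hmem := prod_pow_mem_span (p := p) (a := a) (c := c) fun i => (e i : ℕ) + (Fin.rev (f i) : ℕ)
  refine (LinearMap.mem_ker).1 (Submodule.span_le.2 ?_ hmem)
  rintro _ ⟨g, hg, rfl⟩
  rw [SetLike.mem_coe, LinearMap.mem_ker, tau_mon, if_neg]
  intro hgt
  have h1 := hg i (by omega)
  rw [hgt] at h1
  simp only [topExp] at h1
  omega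

/-- The pairing by the top coefficient. -/
noncomputable def pairing : AS p a c →ₗ[R] ((ι → Fin p) → R) :=
  LinearMap.pi fun e => tau.comp (LinearMap.mulLeft R (mon e))

theorem pairing_surjective : Function.Surjective (pairing : AS p a c →ₗ[R] ((ι → Fin p) → R)) := by
  classical
  rw [← LinearMap.range_eq_top, eq_top_iff]
  have key : ∀ N : ℕ, ∀ f : ι → Fin p, (∑ i, (p - 1 - (f i : ℕ))) = N →
      Pi.single f (1 : R) ∈ LinearMap.range (pairing (p := p) (a := a) (c := c)) := by
    intro N
    induction N using Nat.strong_induction_on with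
    | _ N ih =>
      intro f hf
      have hdec : pairing (mon fun i => Fin.rev (f i) : AS p a c) = Pi.single f 1 +
          ∑ e ∈ Finset.univ.filter (fun e : ι → Fin p => (∀ i, f i ≤ e i) ∧ e ≠ f),
            tau (mon e * mon fun i => Fin.rev (f i) : AS p a c) • Pi.single e 1 := by
        funext g
        simp only [pairing, LinearMap.pi_apply, LinearMap.comp_apply, LinearMap.mulLeft_apply,
          Pi.add_apply, Finset.sum_apply, Pi.smul_apply, Pi.single_apply, smul_eq_mul, mul_ite,
          mul_one, mul_zero, Finset.sum_ite_eq, Finset.mem_filter, Finset.mem_univ, true_and]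
        rcases eq_or_ne g f with rfl | hgf
        · rw [tau_mon_mul_mon g g (fun i _ => rfl)]
          simp
        · by_cases hall : ∀ i, f i ≤ g i
          · simp [hall, hgf]
          · rw [if_neg hgf, if_neg (fun h => hall h.1), add_zero]
            push Not at hall
            obtain ⟨i, hi⟩ := hall
            have hm : (mon g * mon (fun i => Fin.rev (f i)) : AS p a c) =
                ∏ i, u i ^ ((g i : ℕ) + (Fin.rev (f i) : ℕ)) := by
              simp only [mon, ← Finset.prod_mul_distrib, pow_add]
            rw [hm]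
            refine (LinearMap.mem_ker).1 (Submodule.span_le.2 ?_
              (prod_pow_mem_span (p := p) (a := a) (c := c) fun i => (g i : ℕ) + (Fin.rev (f i) : ℕ)))
            rintro _ ⟨g', hg', rfl⟩
            rw [SetLike.mem_coe, LinearMap.mem_ker, tau_mon, if_neg]
            intro hgt
            have hlt : (g i : ℕ) + (Fin.rev (f i) : ℕ) < p - 1 := by
              rw [Fin.val_rev]; have := (f i).isLt; have := Fin.lt_def.1 hi; omega
            have h1 := hg' i (by omega)
            rw [hgt] at h1
            simp only [topExp] at h1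
            omega
      have h2 : ∑ e ∈ Finset.univ.filter (fun e : ι → Fin p => (∀ i, f i ≤ e i) ∧ e ≠ f),
            tau (mon e * mon fun i => Fin.rev (f i) : AS p a c) • (Pi.single e (1 : R)) ∈
              LinearMap.range (pairing (p := p) (a := a) (c := c)) := by
        refine Submodule.sum_mem _ fun e he => Submodule.smul_mem _ _ ?_
        rw [Finset.mem_filter] at he
        refine ih _ ?_ e rfl
        rw [← hf]
        obtain ⟨i, hi⟩ := Function.ne_iff.1 he.2.2
        refine Finset.sum_lt_sum (fun j _ => ?_) ⟨i, Finset.mem_univ i, ?_⟩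
        · have := Fin.le_def.1 (he.2.1 j); omega
        · have h3 := Fin.le_def.1 (he.2.1 i)
          have h4 : (e i : ℕ) ≠ f i := fun h => hi (Fin.ext h)
          have := (e i).isLt
          omega
      have h3 := sub_mem (LinearMap.mem_range_self pairing (mon fun i => Fin.rev (f i) : AS p a c)) h2
      rwa [hdec, add_sub_cancel_right] at h3
  intro x _
  rw [pi_eq_sum_univ' x]
  exact Submodule.sum_mem _ fun f _ => Submodule.smul_mem _ _ (key _ f rfl)

theorem pairing_bijective : Function.Bijective (pairing : AS p a c →ₗ[R] ((ι → Fin p) → R)) := by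
  refine ⟨?_, pairing_surjective⟩
  have h := OrzechProperty.injective_of_surjective_endomorphism
    (basis.equivFun.symm.toLinearMap.comp (pairing : AS p a c →ₗ[R] ((ι → Fin p) → R)))
    (basis.equivFun.symm.surjective.comp pairing_surjective)
  exact Function.Injective.of_comp (f := ⇑(basis (p := p) (a := a) (c := c)).equivFun.symm) h

theorem exists_tau_mul_eq (ψ : AS p a c →ₗ[R] R) : ∃ z, ∀ x, tau (x * z) = ψ x := by
  obtain ⟨z, hz⟩ := pairing_surjective (p := p) (a := a) (c := c) fun e => ψ (mon e)
  refine ⟨z, fun x => DFunLike.congr_fun (f := tau.comp (LinearMap.mulRight R z)) (g := ψ) ?_ x⟩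
  exact basis.ext fun e => by simpa [pairing] using congrFun hz e

theorem eq_zero_of_tau_mul {d : AS p a c} (h : ∀ x, tau (x * d) = 0) : d = 0 :=
  pairing_bijective.1 (by
    rw [map_zero]
    funext e
    exact h (mon e))

omit [Fintype ι] in
/-- A translate of a monomial. -/
theorem map_mon_all [Fintype ι] [DecidableEq ι] (T : AS p a c →ₐ[R] AS p a c) (b : ι → R)
    (hT : ∀ i, T (u i) = u i + algebraMap R _ (b i)) (e : ι → Fin p) :
    T (mon e) = ∑ m : ι → Fin p,
      (∏ i, (((e i : ℕ).choose (m i) : R) * b i ^ ((e i : ℕ) - m i))) • mon m := by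
  have h1 : ∀ i, (u i + algebraMap R (AS p a c) (b i)) ^ (e i : ℕ) =
      ∑ j : Fin p, algebraMap R (AS p a c) (((e i : ℕ).choose j : R) * b i ^ ((e i : ℕ) - j)) *
        u i ^ (j : ℕ) := by
    intro i
    rw [add_pow, Finset.sum_fin_eq_sum_range]
    rw [← Finset.sum_subset (Finset.range_subset_range.2 (Nat.succ_le_of_lt (e i).isLt))]
    · refine Finset.sum_congr rfl fun m hm => ?_
      rw [Finset.mem_range] at hm
      rw [dif_pos (lt_of_lt_of_le hm (e i).isLt), map_mul, map_pow, map_natCast]
      ring
    · intro m hm hm'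
      rw [Finset.mem_range] at hm hm'
      rw [dif_pos hm, Nat.choose_eq_zero_of_lt (show (e i : ℕ) < m by omega), Nat.cast_zero, zero_mul,
        map_zero, zero_mul]
  rw [mon, map_prod, Finset.prod_congr rfl fun i _ => by rw [map_pow, hT i, h1 i], Fintype.prod_sum]
  refine Finset.sum_congr rfl fun m _ => ?_
  rw [smul_eq, map_prod, mon, Finset.prod_mul_distrib]

theorem tau_map (T : AS p a c →ₐ[R] AS p a c) (b : ι → R)
    (hT : ∀ i, T (u i) = u i + algebraMap R _ (b i)) : tau.comp T.toLinearMap = tau := by
  classical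
  refine basis.ext fun e => ?_
  simp only [LinearMap.comp_apply, basis_apply, AlgHom.toLinearMap_apply, map_mon_all T b hT, map_sum,
    map_smul, tau_mon, smul_eq_mul, mul_ite, mul_one, mul_zero, Finset.sum_ite_eq', Finset.mem_univ,
    if_true]
  rcases eq_or_ne e topExp with rfl | hne
  · simp [topExp]
  · rw [if_neg hne]
    obtain ⟨i, hi⟩ := Function.ne_iff.1 hne
    refine Finset.prod_eq_zero (Finset.mem_univ i) ?_
    rw [Nat.choose_eq_zero_of_lt, Nat.cast_zero, zero_mul]
    have h2 : (e i : ℕ) ≠ p - 1 := fun h => hi (Fin.ext h)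
    have := (e i).isLt
    simp only [topExp]
    omega

section Skew

open SkewMonoidAlgebra

variable {G : Type w} [Group G] [Finite G] [MulSemiringAction G (AS p a c)]
  [SMulCommClass G R (AS p a c)]

theorem coeff_one_mul [Fintype G] (x y : SkewMonoidAlgebra (AS p a c) G) :
    (x * y).coeff 1 = ∑ h, x.coeff h * h • y.coeff h⁻¹ := by
  classical
  rw [coeff_mul_antidiagonal_of_finset x y 1
    (Finset.univ.map ⟨fun h : G => (h, h⁻¹), fun h h' e => congrArg Prod.fst e⟩) fun {q} => ?_]
  · rw [Finset.sum_map]; rfl
  · simp only [Finset.mem_map, Finset.mem_univ, true_and, Function.Embedding.coeFn_mk]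
    constructor
    · rintro ⟨h, rfl⟩; exact mul_inv_cancel h
    · intro h; exact ⟨q.1, Prod.ext rfl (inv_eq_of_mul_eq_one_right h)⟩

/-- The skew group ring is a symmetric algebra. -/
theorem exists_symmetrizing (g : G) (hg : ∀ h : G, h ∈ Subgroup.zpowers g)
    (hgu : ∀ i, g • (u i : AS p a c) = u i + algebraMap R _ (a i)) :
    ∃ φ : SkewMonoidAlgebra (AS p a c) G →ₗ[R] R,
      (∀ x y : SkewMonoidAlgebra (AS p a c) G, φ (x * y) = φ (y * x)) ∧
      Function.Injective (fun y : SkewMonoidAlgebra (AS p a c) G =>
        fun x : SkewMonoidAlgebra (AS p a c) G => φ (x * y)) ∧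
      ∀ ψ : SkewMonoidAlgebra (AS p a c) G →ₗ[R] R, ∃ y : SkewMonoidAlgebra (AS p a c) G,
        ∀ x, ψ x = φ (x * y) := by
  classical
  have := Fintype.ofFinite G
  have hinv : ∀ (h : G) (z : AS p a c), tau (h • z) = tau z := by
    let K : Subgroup G :=
      { carrier := {h | ∀ z : AS p a c, tau (h • z) = tau z}
        one_mem' := fun z => by rw [one_smul]
        mul_mem' := fun {x y} hx hy z => by rw [mul_smul, hx, hy]
        inv_mem' := fun {x} hx z => by rw [← hx, smul_inv_smul] }
    intro h
    refine (Subgroup.zpowers_le.2 (show g ∈ K from fun z => ?_)) (hg h)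
    have h1 := tau_map (MulSemiringAction.toAlgHom R (AS p a c) g) a (fun i => by simpa using hgu i)
    simpa using DFunLike.congr_fun h1 z
  let φ : SkewMonoidAlgebra (AS p a c) G →ₗ[R] R :=
    tau.comp ((Finsupp.lapply (1 : G)).comp coeffLinearEquiv.toLinearMap)
  have hφ : ∀ x y, φ (x * y) = ∑ h, tau (x.coeff h * h • y.coeff h⁻¹) := fun x y => by
    show tau ((x * y).coeff 1) = _
    rw [coeff_one_mul, _root_.map_sum]
  refine ⟨φ, fun x y => ?_, fun y y' hy => ?_, fun ψ => ?_⟩
  · rw [hφ, hφ, ← Equiv.sum_comp (Equiv.inv G)]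
    refine Finset.sum_congr rfl fun h _ => ?_
    simp only [Equiv.inv_apply, inv_inv]
    rw [← hinv h, smul_mul', smul_inv_smul, mul_comm]
  · refine SkewMonoidAlgebra.ext fun h => ?_
    rw [← sub_eq_zero]
    have h0 : h⁻¹ • (y.coeff h - y'.coeff h) = 0 := eq_zero_of_tau_mul fun z => by
      have h1 := congrFun hy (single h⁻¹ z)
      simp only [hφ] at h1
      rw [Finset.sum_eq_single h⁻¹ (by intro b _ hb; simp [coeff_single, Finsupp.single_eq_of_ne hb])
        (by simp), Finset.sum_eq_single h⁻¹ (by intro b _ hb; simp [coeff_single,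
          Finsupp.single_eq_of_ne hb]) (by simp)] at h1
      simp only [coeff_single, Finsupp.single_eq_same, inv_inv] at h1
      rw [smul_sub, mul_sub, map_sub, h1, sub_self]
    rwa [smul_eq_zero_iff_eq] at h0
  · choose z hz using fun h : G => exists_tau_mul_eq (ψ.comp (SkewMonoidAlgebra.lsingle (R := R) h))
    refine ⟨∑ h, single h⁻¹ (h⁻¹ • z h), fun x => ?_⟩
    induction x using SkewMonoidAlgebra.induction_on with
    | zero => simp [hφ]
    | add f f' hf hf' =>
      rw [_root_.map_add, hf, hf', hφ, hφ, hφ, ← Finset.sum_add_distrib]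
      refine Finset.sum_congr rfl fun h _ => ?_
      rw [← _root_.map_add, ← add_mul]
      rw [coeff_add, Finsupp.add_apply]
    | single h w =>
      rw [hφ, Finset.sum_eq_single h (by intro b _ hb; simp [coeff_single, Finsupp.single_eq_of_ne hb])
        (by simp)]
      have hc : (∑ h' : G, single h'⁻¹ (h'⁻¹ • z h')).coeff h⁻¹ = h⁻¹ • z h := by
        rw [show ∀ f : SkewMonoidAlgebra (AS p a c) G, f.coeff = (coeffLinearEquiv (S := R) f : G →₀ _) from
          fun _ => rfl, _root_.map_sum, Finsupp.finsetSum_apply, Finset.sum_eq_single h]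
        · exact Finsupp.single_eq_same
        · intro b _ hb
          exact Finsupp.single_eq_of_ne (inv_injective.ne hb.symm)
        · simp
      rw [hc, smul_inv_smul, coeff_single, Finsupp.single_eq_same]
      exact (hz h w).symm

end Skew

end WildASLib
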