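import Groth.Agent.WildASLib.Auts
import Mathlib.LinearAlgebra.Dimension.RankNullity
import Mathlib.LinearAlgebra.Dimension.Localization
import Mathlib.LinearAlgebra.FreeModule.PID
import Mathlib.RingTheory.IntegralClosure.IntegrallyClosed
import Mathlib.RingTheory.Localization.Integral
import Mathlib.RingTheory.Localization.Away.Basic

/-!
# Minor elements of an Artin–Schreier algebra
-/

set_option autoImplicit false

universe u v

namespace WildASLib

variable {R : Type u} [CommRing R] {ι : Type v} [Fintype ι] [DecidableEq ι]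
  {p : ℕ} [hp : Fact p.Prime] [CharP R p] (a x : ι → R) (μ : R) (i₀ : ι)

/-- The roots after changing variables to the minor elements through `i₀`. -/
def minorRoot : ι → R := fun j => if j = i₀ then μ * a i₀ else μ * a i₀ * a j

/-- The constants after changing variables to the minor elements through `i₀`. -/
def minorConst (p : ℕ) : ι → R := fun j => if j = i₀ then x i₀ else a i₀ ^ p * x j - a j ^ p * x i₀

/-- The minor element. -/
noncomputable def minorElt (j : ι) : AS p (fun i => μ * a i) x :=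
  algebraMap R _ (a i₀) * u j - algebraMap R _ (a j) * u i₀

theorem minorElt_pow (j : ι) : (minorElt a x μ i₀ j : AS p (fun i => μ * a i) x) ^ p =
    algebraMap R _ ((μ * a i₀ * a j) ^ (p - 1)) * minorElt a x μ i₀ j +
      algebraMap R _ (a i₀ ^ p * x j - a j ^ p * x i₀) := by
  haveI := charP_as (p := p) (a := fun i => μ * a i) (c := x)
  have h : ∀ b : R, b ^ p = b ^ (p - 1) * b := fun b => by
    rw [← pow_succ, Nat.sub_add_cancel hp.out.one_le]
  rw [minorElt, sub_pow_char, mul_pow, mul_pow, u_pow, u_pow, ← map_pow, ← map_pow, h (a i₀), h (a j)]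
  simp only [map_mul, map_sub, map_pow, mul_pow]
  ring

/-- The change of variables. -/
noncomputable def minorMap :
    AS p (minorRoot a μ i₀) (minorConst a x i₀ p) →ₐ[R] AS p (fun i => μ * a i) x :=
  lift (fun j => if j = i₀ then u i₀ else minorElt a x μ i₀ j) fun j => by
    rcases eq_or_ne j i₀ with rfl | hj
    · simp only [if_pos, minorRoot, minorConst]; exact u_pow j
    · simp only [if_neg hj, minorRoot, minorConst]; exact minorElt_pow a x μ i₀ j

theorem minorMap_u₀ : minorMap a x μ i₀ (u i₀ : AS p (minorRoot a μ i₀) (minorConst a x i₀ p)) =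
    (u i₀ : AS p (fun i => μ * a i) x) := by simp [minorMap]

theorem minorMap_u {j : ι} (hj : j ≠ i₀) :
    minorMap a x μ i₀ (u j : AS p (minorRoot a μ i₀) (minorConst a x i₀ p)) = minorElt a x μ i₀ j := by
  simp [minorMap, hj]

theorem exists_pow_mul_mem_range (t : AS p (fun i => μ * a i) x) :
    ∃ N : ℕ, algebraMap R _ (a i₀) ^ N * t ∈ (minorMap (p := p) a x μ i₀).range := by
  have hmono : ∀ {N M : ℕ} {y : AS p (fun i => μ * a i) x}, N ≤ M →
      algebraMap R _ (a i₀) ^ N * y ∈ (minorMap (p := p) a x μ i₀).range →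
        algebraMap R _ (a i₀) ^ M * y ∈ (minorMap (p := p) a x μ i₀).range := by
    intro N M y hNM hy
    rw [← Nat.sub_add_cancel hNM, pow_add, mul_assoc]
    exact mul_mem (pow_mem (Subalgebra.algebraMap_mem _ _) _) hy
  induction t using induction_u with
  | hC r => exact ⟨0, by rw [pow_zero, one_mul]; exact Subalgebra.algebraMap_mem _ r⟩
  | hadd y z hy hz =>
    obtain ⟨N, hN⟩ := hy; obtain ⟨M, hM⟩ := hz
    exact ⟨max N M, by rw [mul_add]; exact add_mem (hmono (le_max_left _ _) hN) (hmono (le_max_right _ _) hM)⟩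
  | hu y j hy =>
    obtain ⟨N, hN⟩ := hy
    refine ⟨N + 1, ?_⟩
    rw [pow_succ, show algebraMap R _ (a i₀) ^ N * algebraMap R _ (a i₀) * (y * u j) =
      algebraMap R (AS p (fun i => μ * a i) x) (a i₀) ^ N * y * (algebraMap R _ (a i₀) * u j) by ring]
    refine mul_mem hN ?_
    rcases eq_or_ne j i₀ with rfl | hj
    · exact mul_mem (Subalgebra.algebraMap_mem _ _) ⟨u j, minorMap_u₀ a x μ j⟩
    · rw [show algebraMap R _ (a i₀) * u j = minorElt a x μ i₀ j +
        algebraMap R (AS p (fun i => μ * a i) x) (a j) * u i₀ by simp [minorElt]]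
      exact add_mem ⟨u j, minorMap_u a x μ i₀ hj⟩
        (mul_mem (Subalgebra.algebraMap_mem _ _) ⟨u i₀, minorMap_u₀ a x μ i₀⟩)

variable [IsDomain R] [IsNoetherianRing R]

theorem minorMap_injective (h0 : a i₀ ≠ 0) : Function.Injective (minorMap (p := p) a x μ i₀) := by
  classical
  let f := (minorMap (p := p) a x μ i₀).toLinearMap
  have hall : ∃ N : ℕ, ∀ t, algebraMap R _ (a i₀) ^ N * t ∈ LinearMap.range f := by
    choose N hN using fun e => exists_pow_mul_mem_range (p := p) a x μ i₀ (basis e)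
    refine ⟨Finset.univ.sup N, fun t => ?_⟩
    rw [← basis.sum_repr t, Finset.mul_sum]
    refine Submodule.sum_mem _ fun e _ => ?_
    rw [mul_smul_comm]
    refine Submodule.smul_mem _ _ ?_
    obtain ⟨s, hs⟩ := hN e
    refine ⟨a i₀ ^ (Finset.univ.sup N - N e) • s, ?_⟩
    have hs' : f s = algebraMap R _ (a i₀) ^ N e * basis e := hs
    rw [map_smul, hs', smul_eq, map_pow, ← mul_assoc, ← pow_add,
      Nat.sub_add_cancel (Finset.le_sup (Finset.mem_univ e))]
  obtain ⟨N, hN⟩ := hall
  let g : AS p (fun i => μ * a i) x →ₗ[R] LinearMap.range f :=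
    LinearMap.codRestrict _ (LinearMap.mulLeft R (algebraMap R _ (a i₀) ^ N)) hN
  have hg : Function.Injective g := fun s t h => by
    have h1 : algebraMap R _ (a i₀) ^ N * s = algebraMap R _ (a i₀) ^ N * t := congrArg Subtype.val h
    rw [← map_pow, ← smul_eq, ← smul_eq] at h1
    refine basis.repr.injective (Finsupp.ext fun e => mul_left_cancel₀ (pow_ne_zero N h0) ?_)
    simpa using congrArg (fun z => basis.repr z e) h1
  have h1 := LinearMap.finrank_le_finrank_of_injective hg
  have h2 := Submodule.finrank_quotient_add_finrank (LinearMap.ker f)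
  rw [(LinearMap.quotKerEquivRange f).finrank_eq, finrank_eq] at h2
  rw [finrank_eq] at h1
  have h3 : Module.finrank R (LinearMap.ker f) = 0 := by omega
  have h4 : LinearMap.ker f = ⊥ := by
    rw [← Submodule.finrank_eq_zero (R := R)]
    exact h3
  exact LinearMap.ker_eq_bot.1 h4

/-- The complete intersection on the minor elements. -/
abbrev MinorCI (p : ℕ) := AS p (fun j : {j : ι // j ≠ i₀} => μ * a i₀ * a j.1)
  (fun j : {j : ι // j ≠ i₀} => a i₀ ^ p * x j.1 - a j.1 ^ p * x i₀)

/-- The minor elements generate a quotient of the complete intersection. -/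
noncomputable def ciMap : MinorCI a x μ i₀ p →ₐ[R] AS p (fun i => μ * a i) x :=
  lift (fun j => minorElt a x μ i₀ j.1) fun j => minorElt_pow a x μ i₀ j.1

omit [IsDomain R] [IsNoetherianRing R] in
theorem range_ciMap : (ciMap (p := p) a x μ i₀).range = Algebra.adjoin R
    (Set.range fun j : {j : ι // j ≠ i₀} => (minorElt a x μ i₀ j.1 : AS p (fun i => μ * a i) x)) := by
  rw [← Algebra.map_top, ← adjoin_range_u, AlgHom.map_adjoin, ← Set.range_comp]
  congr 2
  funext j
  simp [ciMap]

/-- Extend an exponent by zero. -/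
def extExp (e : {j : ι // j ≠ i₀} → Fin p) : ι → Fin p :=
  fun i => if h : i = i₀ then ⟨0, hp.out.pos⟩ else e ⟨i, h⟩

omit [IsDomain R] [IsNoetherianRing R] in
theorem ciMap_mon (e : {j : ι // j ≠ i₀} → Fin p) :
    ciMap a x μ i₀ (mon e : MinorCI a x μ i₀ p) =
      minorMap a x μ i₀ (mon (extExp i₀ e) : AS p (minorRoot a μ i₀) (minorConst a x i₀ p)) := by
  simp only [mon, map_prod, map_pow, ciMap, lift_u]
  rw [Fintype.prod_eq_mul_prod_subtype_ne (fun i => minorMap a x μ i₀ (u i) ^ (extExp i₀ e i : ℕ)) i₀,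
    show extExp i₀ e i₀ = ⟨0, hp.out.pos⟩ by simp [extExp], pow_zero, one_mul]
  refine Finset.prod_congr rfl fun j _ => ?_
  rw [minorMap_u a x μ i₀ j.2, show extExp i₀ e j.1 = e j by simp [extExp, j.2]]

theorem ciMap_injective (h0 : a i₀ ≠ 0) : Function.Injective (ciMap (p := p) a x μ i₀) := by
  have hext : Function.Injective (extExp (p := p) i₀) := fun e e' h => funext fun j => by
    simpa [extExp, j.2] using congrFun h j.1
  have hli : LinearIndependent R ((ciMap (p := p) a x μ i₀).toLinearMap ∘ basis) := by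
    have h := (linearIndependent_mon.map' (minorMap (p := p) a x μ i₀).toLinearMap
      (LinearMap.ker_eq_bot.2 (minorMap_injective a x μ i₀ h0))).comp _ hext
    have heq : (ciMap (p := p) a x μ i₀).toLinearMap ∘ basis =
        ((minorMap (p := p) a x μ i₀).toLinearMap ∘ mon) ∘ extExp i₀ := by
      funext e; simp [ciMap_mon]
    rw [heq]; exact h
  refine (injective_iff_map_eq_zero _).2 fun z hz => basis.repr.injective (Finsupp.ext fun e => ?_)
  rw [map_zero, Finsupp.zero_apply]
  refine Fintype.linearIndependent_iff.1 hli (fun e => basis.repr z e) ?_ e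
  rw [← hz]
  conv_rhs => rw [← basis.sum_repr z, map_sum]
  simp [map_smul]

theorem ker_aeval_minorElt (h0 : a i₀ ≠ 0) :
    RingHom.ker (MvPolynomial.aeval (fun j : {j : ι // j ≠ i₀} =>
      (minorElt a x μ i₀ j.1 : AS p (fun i => μ * a i) x))) =
      rel p (fun j : {j : ι // j ≠ i₀} => μ * a i₀ * a j.1)
        (fun j : {j : ι // j ≠ i₀} => a i₀ ^ p * x j.1 - a j.1 ^ p * x i₀) := by
  have h : MvPolynomial.aeval (fun j : {j : ι // j ≠ i₀} =>
      (minorElt a x μ i₀ j.1 : AS p (fun i => μ * a i) x)) =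
      (ciMap a x μ i₀).comp (Ideal.Quotient.mkₐ R _) := by
    refine MvPolynomial.algHom_ext fun j => ?_
    rw [MvPolynomial.aeval_X, AlgHom.comp_apply]
    show _ = ciMap a x μ i₀ (u j)
    rw [ciMap, lift_u]
  refine Ideal.ext fun q => ?_
  rw [RingHom.mem_ker, h, AlgHom.comp_apply, map_eq_zero_iff _ (ciMap_injective a x μ i₀ h0)]
  exact Ideal.Quotient.eq_zero_iff_mem

/-- Invariants of the diagonal translation, after inverting `a i₀`. -/
theorem exists_pow_mul_mem_adjoin (h0 : a i₀ ≠ 0) (hμ : μ ≠ 0)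
    (σ : AS p (fun i => μ * a i) x →ₐ[R] AS p (fun i => μ * a i) x)
    (hσ : ∀ i, σ (u i) = u i + algebraMap R _ (μ * a i)) (t : AS p (fun i => μ * a i) x) (ht : σ t = t) :
    ∃ N : ℕ, algebraMap R _ (μ * a i₀) ^ N * t ∈ (ciMap (p := p) a x μ i₀).range := by
  obtain ⟨N, s, hs⟩ := exists_pow_mul_mem_range a x μ i₀ t
  let T : AS p (minorRoot a μ i₀) (minorConst a x i₀ p) →ₐ[R]
      AS p (minorRoot a μ i₀) (minorConst a x i₀ p) := tr (Pi.single i₀ 1)
  have hT0 : T (u i₀) = u i₀ + algebraMap R _ (μ * a i₀) := by simp [T, minorRoot]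
  have hTj : ∀ j, j ≠ i₀ → T (u j) = u j := fun j hj => by simp [T, hj]
  have hcomm : (minorMap a x μ i₀).comp T = σ.comp (minorMap a x μ i₀) := by
    refine algHom_ext fun j => ?_
    rw [AlgHom.comp_apply, AlgHom.comp_apply]
    rcases eq_or_ne j i₀ with rfl | hj
    · rw [hT0, map_add, AlgHom.commutes, minorMap_u₀, hσ]
    · rw [hTj j hj, minorMap_u a x μ i₀ hj, minorElt, map_sub, map_mul, map_mul, AlgHom.commutes,
        AlgHom.commutes, hσ, hσ]
      simp only [map_mul]
      ring
  have hsfix : T s = s := minorMap_injective a x μ i₀ h0 (by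
    have h1 := DFunLike.congr_fun hcomm s
    simp only [AlgHom.comp_apply, AlgHom.toRingHom_eq_coe, RingHom.coe_coe] at h1 hs
    rw [h1, hs, map_mul, map_pow, AlgHom.commutes, ht])
  refine ⟨N, ?_⟩
  rw [map_mul, mul_pow, mul_assoc]
  refine mul_mem (pow_mem (Subalgebra.algebraMap_mem _ _) _) ?_
  simp only [AlgHom.toRingHom_eq_coe, RingHom.coe_coe] at hs
  rw [← hs, ← basis.sum_repr s, map_sum]
  refine Subalgebra.sum_mem _ fun e _ => ?_
  rw [map_smul]
  rcases eq_or_ne (e i₀ : ℕ) 0 with he | he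
  · refine Subalgebra.smul_mem _ ?_ _
    refine ⟨mon fun j => e j.1, ?_⟩
    show ciMap a x μ i₀ _ = _
    rw [ciMap_mon, basis_apply]
    congr 2
    funext i
    rcases eq_or_ne i i₀ with rfl | hi
    · simp [extExp, ← he]
    · simp [extExp, hi]
  · rw [repr_eq_zero_of_fixed (mul_ne_zero hμ h0) T hT0 hTj hsfix he,
      show (0 : R) • minorMap a x μ i₀ (basis e) = 0 from zero_smul R _]
    exact zero_mem _

theorem isDomain_minorCI (h0 : a i₀ ≠ 0) [IsDomain (AS p (fun i => μ * a i) x)] :
    IsDomain (MinorCI a x μ i₀ p) :=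
  (ciMap_injective a x μ i₀ h0).isDomain (ciMap (p := p) a x μ i₀).toRingHom

theorem isIntegrallyClosed_away (h0 : a i₀ ≠ 0) (hμ : μ ≠ 0) [IsDomain (AS p (fun i => μ * a i) x)]
    [IsIntegrallyClosed (AS p (fun i => μ * a i) x)] :
    IsIntegrallyClosed (Localization.Away (algebraMap R (MinorCI a x μ i₀ p) (μ * a i₀))) := by
  haveI := isDomain_minorCI (p := p) a x μ i₀ h0
  let B := MinorCI a x μ i₀ p
  let A := AS p (fun i => μ * a i) x
  let φ : B →+* A := (ciMap (p := p) a x μ i₀).toRingHom
  have hφ : Function.Injective φ := ciMap_injective a x μ i₀ h0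
  let F : B := algebraMap R B (μ * a i₀)
  have hF : F ≠ 0 := fun h => mul_ne_zero hμ h0 (algebraMap_injective (p := p) (h.trans (map_zero _).symm))
  let L := Localization.Away F
  haveI : IsDomain L := IsLocalization.isDomain_localization
    (powers_le_nonZeroDivisors_of_noZeroDivisors hF)
  let K := FractionRing B
  let K' := FractionRing A
  have hle : Submonoid.powers F ≤ nonZeroDivisors B := powers_le_nonZeroDivisors_of_noZeroDivisors hF
  letI : Algebra L K := (IsLocalization.lift (M := Submonoid.powers F) (g := algebraMap B K)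
    fun y => IsLocalization.map_units K (⟨y.1, hle y.2⟩ : nonZeroDivisors B)).toAlgebra
  haveI hBLK := IsScalarTower.of_algebraMap_eq (R := B) (S := L) (A := K)
    fun b => (IsLocalization.lift_eq _ b).symm
  haveI : IsFractionRing L K :=
    IsFractionRing.isFractionRing_of_isDomain_of_isLocalization (Submonoid.powers F) L K
  refine (isIntegrallyClosed_iff K).2 fun {w} hw => ?_
  obtain ⟨⟨m, hm⟩, hmw⟩ := IsIntegral.exists_multiple_integral_of_isLocalization (Submonoid.powers F) w hw
  obtain ⟨b, ⟨b', hb'⟩, rfl⟩ := IsLocalization.exists_mk'_eq (nonZeroDivisors B) w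
  have hb'0 : b' ≠ 0 := nonZeroDivisors.ne_zero hb'
  let ψ : K →+* K' := IsLocalization.map (T := nonZeroDivisors A) K' φ
    (nonZeroDivisors_le_comap_nonZeroDivisors_of_injective φ hφ)
  have hψ : ∀ z, ψ (algebraMap B K z) = algebraMap A K' (φ z) := fun z => IsLocalization.map_eq _ z
  obtain ⟨P, hPm, hP⟩ := hmw
  set w : K := IsLocalization.mk' K b ⟨b', hb'⟩
  have hy : IsIntegral A (ψ (algebraMap B K m * w)) := by
    refine ⟨P.map φ, hPm.map φ, ?_⟩
    rw [Polynomial.eval₂_map, show (algebraMap A K').comp φ = ψ.comp (algebraMap B K) from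
      RingHom.ext fun z => (hψ z).symm, ← Polynomial.hom_eval₂]
    rw [show algebraMap B K m * w = (⟨m, hm⟩ : Submonoid.powers F) • w from (Algebra.smul_def m w).symm,
      hP, map_zero]
  obtain ⟨t, ht⟩ := IsIntegrallyClosed.isIntegral_iff.1 hy
  have hbt : φ b' * t = φ m * φ b := by
    refine IsFractionRing.injective A K' ?_
    rw [map_mul, ht, map_mul ψ, map_mul, hψ, ← hψ b', ← hψ b]
    rw [mul_left_comm, ← map_mul ψ, mul_comm (algebraMap B K b') w, IsLocalization.mk'_spec]
  haveI := charP_as (p := p) (a := fun i => μ * a i) (c := x)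
  let σ : AS p (fun i => μ * a i) x →ₐ[R] AS p (fun i => μ * a i) x := tr fun _ => 1
  have hσu : ∀ i, σ (u i) = u i + algebraMap R _ (μ * a i) := fun i => by simp [σ]
  have hσB : ∀ z : B, σ (φ z) = φ z := fun z => by
    refine DFunLike.congr_fun (algHom_ext (φ := σ.comp (ciMap (p := p) a x μ i₀))
      (ψ := ciMap (p := p) a x μ i₀) fun j => ?_) z
    simp only [AlgHom.comp_apply, ciMap, lift_u, minorElt, map_sub, map_mul, AlgHom.commutes, hσu]
    ring
  have htfix : σ t = t := by
    have h1 := congrArg σ hbt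
    rw [map_mul, map_mul, hσB, hσB, hσB, ← hbt] at h1
    exact mul_left_cancel₀ ((map_ne_zero_iff φ hφ).2 hb'0) h1
  obtain ⟨N, β, hβ⟩ := exists_pow_mul_mem_adjoin a x μ i₀ h0 hμ σ hσu t htfix
  have hkey : b' * β = F ^ N * (m * b) := hφ (by
    rw [map_mul φ, map_mul φ, map_mul φ, show φ β = φ F ^ N * t by
      rw [show φ F = algebraMap R A (μ * a i₀) from AlgHom.commutes (ciMap (p := p) a x μ i₀) _]; exact hβ,
      mul_left_comm, hbt, map_pow])
  obtain ⟨j, rfl⟩ := hm
  refine ⟨IsLocalization.mk' L β (⟨F ^ (N + j), ⟨N + j, rfl⟩⟩ : Submonoid.powers F), ?_⟩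
  have hne : ∀ z : B, z ≠ 0 → algebraMap B K z ≠ 0 := fun z hz =>
    (map_ne_zero_iff _ (IsFractionRing.injective B K)).2 hz
  refine mul_left_cancel₀ (hne _ (pow_ne_zero (N + j) hF)) ?_
  refine mul_left_cancel₀ (hne _ hb'0) ?_
  have hL : algebraMap B K (F ^ (N + j)) * algebraMap L K (IsLocalization.mk' L β
      (⟨F ^ (N + j), ⟨N + j, rfl⟩⟩ : Submonoid.powers F)) = algebraMap B K β := by
    rw [IsScalarTower.algebraMap_apply B L K, IsScalarTower.algebraMap_apply B L K β, ← map_mul]
    exact congrArg _ (IsLocalization.mk'_spec' L β _)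
  have hR : algebraMap B K b' * w = algebraMap B K b := IsLocalization.mk'_spec' K b _
  rw [hL, mul_left_comm, hR, ← map_mul, ← map_mul, hkey]
  simp only [pow_add]
  congr 1
  ring

end WildASLib
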