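import Groth.Agent.WildASLib.Local
import Groth.Agent.WildASLib.Minor
import Groth.Agent.NormalLib.Regular

/-!
# Instances for the Artin–Schreier family over `k[[x₁, …, xₙ]]`
-/

set_option autoImplicit false

universe u

namespace WildASLib

variable (p : ℕ) [hp : Fact p.Prime] (k : Type u) [Field k] (n : ℕ)

theorem charP_pow [CharP k p] : CharP (MvPowerSeries (Fin n) k) p :=
  charP_of_injective_ringHom (MvPowerSeries.C_injective (σ := Fin n)) p

theorem isDomain_pow : IsDomain (MvPowerSeries (Fin n) k) := NoZeroDivisors.to_isDomain _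

variable {k n}

theorem ne_zero_of_isRelPrime (hn : 2 ≤ n) {a : Fin n → MvPowerSeries (Fin n) k}
    (ham : ∀ i, MvPowerSeries.constantCoeff (a i) = 0) (hcop : ∀ i j, i ≠ j → IsRelPrime (a i) (a j))
    (i : Fin n) : a i ≠ 0 := fun h => by
  haveI : Nontrivial (Fin n) := Fin.nontrivial_iff_two_le.2 hn
  obtain ⟨j, hj⟩ := exists_ne i
  have h1 := hcop i j (Ne.symm hj) (h ▸ dvd_zero (a j)) dvd_rfl
  have h2 := h1.map (MvPowerSeries.constantCoeff (σ := Fin n) (R := k))
  rw [ham j] at h2
  exact not_isUnit_zero h2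

theorem isIntegrallyClosed {a : Fin n → MvPowerSeries (Fin n) k}
    (ham : ∀ i, MvPowerSeries.constantCoeff (a i) = 0) : IsIntegrallyClosed (Fam p k n a) :=
  haveI := isRegularLocalRing (p := p) ham
  NormalLib.isIntegrallyClosed_of_isRegularLocalRing _

end WildASLib
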