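import Groth.Agent.WildASLib.Auts
import Mathlib.LinearAlgebra.Dimension.RankNullity
import Mathlib.LinearAlgebra.Dimension.Localization
import Mathlib.LinearAlgebra.FreeModule.PID
import Mathlib.RingTheory.UniqueFactorizationDomain.Basic
import Mathlib.Algebra.Polynomial.Div
import Mathlib.RingTheory.Polynomial.Basic
import Mathlib.Algebra.Field.ZMod
import Mathlib.RingTheory.Coprime.Lemmas

/-!
# Invariants of an orthogonal subgroup of translations
-/

set_option autoImplicit false

universe u v

namespace WildASLib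

variable {R : Type u} [CommRing R] {ι : Type v} [Fintype ι] [DecidableEq ι]
  {p : ℕ} [hp : Fact p.Prime]

section Change

variable {a c a' c' : ι → R} (φ : AS p a' c' →ₐ[R] AS p a c) {γ : R}
  (hu : ∀ i, algebraMap R _ γ * u i ∈ φ.range)

omit [Fintype ι] [DecidableEq ι] hp in
include hu in
theorem exists_pow_smul_mem_range (t : AS p a c) : ∃ N : ℕ, γ ^ N • t ∈ φ.range := by
  induction t using induction_u with
  | hC r => exact ⟨0, by rw [smul_eq]; exact mul_mem (Subalgebra.algebraMap_mem _ _) (Subalgebra.algebraMap_mem _ _)⟩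
  | hadd y z hy hz =>
    obtain ⟨N, hN⟩ := hy; obtain ⟨M, hM⟩ := hz
    refine ⟨N + M, ?_⟩
    rw [smul_eq, mul_add, ← smul_eq, ← smul_eq]
    refine add_mem ?_ ?_
    · rw [smul_eq, pow_add, map_mul, mul_assoc, mul_left_comm, ← smul_eq (γ ^ N)]
      exact mul_mem (Subalgebra.algebraMap_mem _ _) hN
    · rw [smul_eq, pow_add, map_mul, mul_assoc, ← smul_eq (γ ^ M)]
      exact mul_mem (Subalgebra.algebraMap_mem _ _) hM
  | hu y j hy =>
    obtain ⟨N, hN⟩ := hy
    refine ⟨N + 1, ?_⟩
    rw [smul_eq, pow_succ, map_mul, show algebraMap R _ (γ ^ N) * algebraMap R _ γ * (y * u j) =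
      algebraMap R (AS p a c) (γ ^ N) * y * (algebraMap R _ γ * u j) by ring, ← smul_eq]
    exact mul_mem hN (hu j)

include hu in
theorem injective_of_smul_u_mem_range [IsDomain R] [IsNoetherianRing R] (hγ : γ ≠ 0) :
    Function.Injective φ := by
  let f := φ.toLinearMap
  choose N hN using fun e : ι → Fin p => exists_pow_smul_mem_range φ hu (basis e)
  have hall : ∀ t, γ ^ Finset.univ.sup N • t ∈ LinearMap.range f := by
    intro t
    rw [← basis.sum_repr t, Finset.smul_sum]
    refine Submodule.sum_mem _ fun e _ => ?_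
    rw [smul_comm]
    refine Submodule.smul_mem _ _ ?_
    obtain ⟨s, hs⟩ := hN e
    refine ⟨γ ^ (Finset.univ.sup N - N e) • s, ?_⟩
    have hs' : f s = γ ^ N e • basis e := hs
    rw [map_smul, hs', smul_smul, ← pow_add, Nat.sub_add_cancel (Finset.le_sup (Finset.mem_univ e))]
  let g : AS p a c →ₗ[R] LinearMap.range f :=
    LinearMap.codRestrict _ ((γ ^ Finset.univ.sup N) • LinearMap.id) hall
  have hg : Function.Injective g := fun s t h => by
    have h1 : γ ^ Finset.univ.sup N • s = γ ^ Finset.univ.sup N • t := congrArg Subtype.val h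
    refine basis.repr.injective (Finsupp.ext fun e => mul_left_cancel₀ (pow_ne_zero (Finset.univ.sup N) hγ) ?_)
    simpa using congrArg (fun z => basis.repr z e) h1
  have h1 := LinearMap.finrank_le_finrank_of_injective hg
  have h2 := Submodule.finrank_quotient_add_finrank (LinearMap.ker f)
  rw [(LinearMap.quotKerEquivRange f).finrank_eq, finrank_eq] at h2
  rw [finrank_eq] at h1
  have h3 : Module.finrank R (LinearMap.ker f) = 0 := by omega
  exact LinearMap.ker_eq_bot.1 ((Submodule.finrank_eq_zero (R := R)).1 h3)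

end Change

section Ortho

variable [CharP R p] (a x : ι → R) (μ : R) (s : ι → ZMod p)

/-- The product of the roots over the support, without one of them. -/
def coRoot (i : ι) : R := ∏ j ∈ (Finset.univ.filter fun j => s j ≠ 0).erase i, a j

/-- The product of the roots over the support. -/
def supRoot : R := ∏ j ∈ Finset.univ.filter (fun j => s j ≠ 0), a j

theorem coRoot_mul {i : ι} (hi : s i ≠ 0) : coRoot a s i * a i = supRoot a s := by
  rw [coRoot, supRoot, Finset.prod_erase_mul _ _ (by simpa using hi)]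

/-- The orthogonal element. -/
noncomputable def orthElt : AS p (fun i => μ * a i) x :=
  ∑ i ∈ Finset.univ.filter (fun i => s i ≠ 0), algebraMap R _ (prime p R (s i) * coRoot a s i) * u i

theorem orthElt_pow : (orthElt a x μ s : AS p (fun i => μ * a i) x) ^ p =
    algebraMap R _ ((μ * supRoot a s) ^ (p - 1)) * orthElt a x μ s + algebraMap R _
      (∑ i ∈ Finset.univ.filter (fun i => s i ≠ 0), prime p R (s i) * coRoot a s i ^ p * x i) := by
  haveI := charP_as (p := p) (a := fun i => μ * a i) (c := x)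
  rw [orthElt, sum_pow_char p, Finset.mul_sum, map_sum, ← Finset.sum_add_distrib]
  refine Finset.sum_congr rfl fun i hi => ?_
  rw [mul_pow, u_pow, ← map_pow, mul_pow, ← map_pow (prime p R), ZMod.pow_card,
    ← coRoot_mul a s (i := i) (Finset.mem_filter.1 hi).2]
  have h : coRoot a s i ^ p = coRoot a s i ^ (p - 1) * coRoot a s i := by
    rw [← pow_succ, Nat.sub_add_cancel hp.out.one_le]
  rw [h]
  simp only [map_mul, map_pow, mul_pow]
  ring

theorem tr_orthElt (ν : ι → ZMod p) : tr ν (orthElt a x μ s : AS p (fun i => μ * a i) x) =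
    orthElt a x μ s + algebraMap R _ (μ * supRoot a s * prime p R (∑ i, ν i * s i)) := by
  have h : prime p R (∑ i, ν i * s i) =
      ∑ i ∈ Finset.univ.filter (fun i => s i ≠ 0), prime p R (ν i) * prime p R (s i) := by
    rw [map_sum, Finset.sum_filter_of_ne]
    · exact Finset.sum_congr rfl fun i _ => map_mul _ _ _
    · intro i _ hne h0
      simp [h0] at hne
  rw [h, Finset.mul_sum, orthElt, map_sum, map_sum, ← Finset.sum_add_distrib]
  refine Finset.sum_congr rfl fun i hi => ?_
  rw [map_mul (tr ν), AlgHom.commutes, tr_u, ← coRoot_mul a s (i := i) (Finset.mem_filter.1 hi).2]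
  simp only [map_mul]
  ring

variable (j : ι)

/-- Exponent `m` in the variable `j` and zero elsewhere. -/
def deltaExp (m : Fin p) : ι → Fin p := Function.update (fun _ => ⟨0, hp.out.pos⟩) j m

theorem mon_deltaExp (m : Fin p) : (mon (deltaExp j m) : AS p (fun i => μ * a i) x) = u j ^ (m : ℕ) := by
  rw [mon, ← Finset.mul_prod_erase _ _ (Finset.mem_univ j), Finset.prod_eq_one fun i hi => by
    rw [deltaExp, Function.update_of_ne (Finset.ne_of_mem_erase hi), pow_zero]]
  simp [deltaExp]

theorem pow_orthElt_sub_mem {l : ℕ} (hl : l < p) :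
    (orthElt a x μ s : AS p (fun i => μ * a i) x) ^ l -
      (prime p R (s j) * coRoot a s j) ^ l • mon (deltaExp j ⟨l, hl⟩) ∈
        Submodule.span R (mon '' {e : ι → Fin p | ∑ i, (e i : ℕ) = l ∧ (e j : ℕ) ≠ l}) := by
  induction l with
  | zero => rw [mon_deltaExp, pow_zero, pow_zero, pow_zero, one_smul, sub_self]; exact zero_mem _
  | succ l ih =>
    set W := Submodule.span R ((mon : (ι → Fin p) → AS p (fun i => μ * a i) x) ''
      {e : ι → Fin p | ∑ i, (e i : ℕ) = l + 1 ∧ (e j : ℕ) ≠ l + 1})
    set z : AS p (fun i => μ * a i) x := orthElt a x μ s with hz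
    set κ := prime p R (s j) * coRoot a s j
    set q : AS p (fun i => μ * a i) x := mon (deltaExp j ⟨l, by omega⟩)
    have hstep : ∀ (e : ι → Fin p) (i : ι), ∑ i, (e i : ℕ) = l → ¬ (i = j ∧ (e j : ℕ) = l) →
        (mon e * u i : AS p (fun i => μ * a i) x) ∈ W := by
      intro e i he hne
      have hlt : (e i : ℕ) + 1 < p := by
        have := Finset.single_le_sum (f := fun i => (e i : ℕ)) (fun _ _ => Nat.zero_le _) (Finset.mem_univ i)
        omega
      have hsum := Finset.sum_update_of_mem (Finset.mem_univ i) (fun i => (e i : ℕ)) ((e i : ℕ) + 1)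
      have hdiff := Finset.sum_eq_add_sum_sdiff_singleton_of_mem (Finset.mem_univ i) (fun i => (e i : ℕ))
      refine Submodule.subset_span ⟨Function.update e i ⟨_, hlt⟩, ⟨?_, ?_⟩, ?_⟩
      · rw [show (fun i' => ((Function.update e i ⟨_, hlt⟩ : ι → Fin p) i' : ℕ)) =
          Function.update (fun i => (e i : ℕ)) i ((e i : ℕ) + 1) from by
            funext i'; rcases eq_or_ne i' i with rfl | h <;> simp [*], hsum]
        omega
      · rcases eq_or_ne i j with rfl | hij
        · simp only [Function.update_self]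
          intro h
          exact hne ⟨rfl, by omega⟩
        · simp only [Function.update_of_ne (Ne.symm hij)]
          intro h
          have := Finset.single_le_sum (f := fun i => (e i : ℕ)) (fun _ _ => Nat.zero_le _) (Finset.mem_univ j)
          omega
      · rw [mon, mon, ← Finset.prod_erase_mul _ _ (Finset.mem_univ i),
          ← Finset.prod_erase_mul _ _ (Finset.mem_univ i), Function.update_self, mul_assoc, ← pow_succ]
        refine congrArg (· * _) (Finset.prod_congr rfl fun i' hi' => ?_)
        rw [Function.update_of_ne (Finset.ne_of_mem_erase hi')]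
    have hmulz : ∀ e : ι → Fin p, ∑ i, (e i : ℕ) = l → (e j : ℕ) ≠ l → mon e * z ∈ W := by
      intro e he hej
      rw [hz, orthElt, Finset.mul_sum]
      refine Submodule.sum_mem _ fun i _ => ?_
      rw [mul_left_comm, ← smul_eq]
      exact Submodule.smul_mem _ _ (hstep e i he fun h => hej h.2)
    have h1 : (z ^ l - κ ^ l • q) * z ∈ W := by
      have h0 := ih (by omega)
      revert h0
      generalize z ^ l - κ ^ l • q = y
      intro h0
      induction h0 using Submodule.span_induction with
      | mem y hy => obtain ⟨e, he, rfl⟩ := hy; exact hmulz e he.1 he.2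
      | zero => rw [zero_mul]; exact zero_mem _
      | add y y' _ _ hy hy' => rw [add_mul]; exact add_mem hy hy'
      | smul r y _ hy => rw [smul_mul_assoc]; exact Submodule.smul_mem _ r hy
    have hsuml : ∑ i, ((deltaExp j (⟨l, by omega⟩ : Fin p)) i : ℕ) = l := by
      rw [Finset.sum_eq_single j (fun i _ hi => by simp [deltaExp, hi]) (by simp)]
      simp [deltaExp]
    have h2 : q * z - κ • (q * u j) ∈ W := by
      rw [hz, orthElt, Finset.mul_sum]
      by_cases hsj : s j = 0
      · rw [show κ = 0 by simp [κ, hsj], smul_eq, map_zero, zero_mul, sub_zero]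
        refine Submodule.sum_mem _ fun i hi => ?_
        rw [mul_left_comm, ← smul_eq]
        exact Submodule.smul_mem _ _ (hstep _ i hsuml fun h => (Finset.mem_filter.1 hi).2 (h.1 ▸ hsj))
      · rw [← Finset.sum_erase_add _ _ (show j ∈ Finset.univ.filter (fun i => s i ≠ 0) by simp [hsj]),
          mul_left_comm q _ (u j), ← smul_eq, add_sub_cancel_right]
        refine Submodule.sum_mem _ fun i hi => ?_
        rw [mul_left_comm, ← smul_eq]
        exact Submodule.smul_mem _ _ (hstep _ i hsuml fun h => Finset.ne_of_mem_erase hi h.1)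
    have h3 := add_mem h1 (Submodule.smul_mem W (κ ^ l) h2)
    rw [show z ^ (l + 1) - κ ^ (l + 1) • mon (deltaExp j ⟨l + 1, hl⟩) =
      (z ^ l - κ ^ l • q) * z + κ ^ l • (q * z - κ • (q * u j)) by
        rw [show (q : AS p (fun i => μ * a i) x) = u j ^ l from mon_deltaExp a x μ j _, mon_deltaExp]
        simp only [smul_eq, map_mul, map_pow]
        ring]
    exact h3

theorem repr_pow_orthElt (l m : Fin p) :
    basis.repr ((orthElt a x μ s : AS p (fun i => μ * a i) x) ^ (l : ℕ)) (deltaExp j m) =
      if l = m then (prime p R (s j) * coRoot a s j) ^ (l : ℕ) else 0 := by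
  have h := pow_orthElt_sub_mem a x μ s j l.isLt
  have h0 : basis.repr ((orthElt a x μ s : AS p (fun i => μ * a i) x) ^ (l : ℕ) -
      (prime p R (s j) * coRoot a s j) ^ (l : ℕ) • mon (deltaExp j l)) (deltaExp j m) = 0 := by
    refine LinearMap.mem_ker.1 (show _ ∈ LinearMap.ker ((Finsupp.lapply (deltaExp j m)).comp
      basis.repr.toLinearMap) from Submodule.span_le.2 ?_ h)
    rintro _ ⟨e, ⟨he, hej⟩, rfl⟩
    rw [SetLike.mem_coe, LinearMap.mem_ker, LinearMap.comp_apply, ← basis_apply]
    simp only [LinearEquiv.coe_coe, Module.Basis.repr_self, Finsupp.lapply_apply]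
    refine Finsupp.single_eq_of_ne fun hem => hej ?_
    have hsum : ∑ i, (e i : ℕ) = (m : ℕ) := by
      rw [← hem, Finset.sum_eq_single j (fun i _ hi => by simp [deltaExp, hi]) (by simp)]
      simp [deltaExp]
    rw [← hem]
    simp [deltaExp]
    omega
  rw [map_sub, Finsupp.sub_apply, sub_eq_zero] at h0
  rw [h0, map_smul, Finsupp.smul_apply, ← basis_apply, Module.Basis.repr_self, Finsupp.single_apply,
    smul_eq_mul, mul_ite, mul_one, mul_zero]
  refine if_congr ?_ rfl rfl
  refine ⟨fun h => ?_, fun h => h ▸ rfl⟩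
  have h1 := congrFun h j
  simpa [deltaExp] using h1

theorem repr_sum_orthElt (g : Fin p → R) (m : Fin p) :
    basis.repr (∑ l : Fin p, g l • (orthElt a x μ s : AS p (fun i => μ * a i) x) ^ (l : ℕ)) (deltaExp j m) =
      g m * (prime p R (s j) * coRoot a s j) ^ (m : ℕ) := by
  simp [map_sum, repr_pow_orthElt]

variable [IsDomain R]

theorem prime_ne_zero {b : ZMod p} (hb : b ≠ 0) : prime p R b ≠ 0 :=
  (map_ne_zero_iff _ (RingHom.injective _)).2 hb

theorem isUnit_prime {b : ZMod p} (hb : b ≠ 0) : IsUnit (prime p R b) :=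
  (IsUnit.mk0 b hb).map _

theorem ker_aeval_orthElt (ha : ∀ i, a i ≠ 0) (hs : s ≠ 0) :
    RingHom.ker (Polynomial.aeval (orthElt a x μ s : AS p (fun i => μ * a i) x) : Polynomial R →ₐ[R] _) =
      Ideal.span {Polynomial.X ^ p - Polynomial.C ((μ * supRoot a s) ^ (p - 1)) * Polynomial.X -
        Polynomial.C (∑ i ∈ Finset.univ.filter (fun i => s i ≠ 0), prime p R (s i) * coRoot a s i ^ p * x i)} := by
  obtain ⟨i, hi⟩ := Function.ne_iff.1 hs
  set f := Polynomial.X ^ p - Polynomial.C ((μ * supRoot a s) ^ (p - 1)) * Polynomial.X -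
    Polynomial.C (∑ i ∈ Finset.univ.filter (fun i => s i ≠ 0), prime p R (s i) * coRoot a s i ^ p * x i)
    with hf
  have hfe : Polynomial.aeval (orthElt a x μ s : AS p (fun i => μ * a i) x) f = 0 := by
    rw [hf, map_sub, map_sub, map_pow, map_mul, Polynomial.aeval_X, Polynomial.aeval_C,
      Polynomial.aeval_C, orthElt_pow]
    ring
  have hdeg : (Polynomial.C ((μ * supRoot a s) ^ (p - 1)) * Polynomial.X + Polynomial.C
      (∑ i ∈ Finset.univ.filter (fun i => s i ≠ 0), prime p R (s i) * coRoot a s i ^ p * x i)).degree <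
      ((p : ℕ) : WithBot ℕ) :=
    lt_of_le_of_lt Polynomial.degree_linear_le (by exact_mod_cast hp.out.one_lt)
  have hmon : f.Monic := by rw [hf, sub_sub]; exact Polynomial.monic_X_pow_sub hdeg
  have hnd : f.natDegree = p := Polynomial.natDegree_eq_of_degree_eq_some (by
    rw [hf, sub_sub, Polynomial.degree_sub_eq_left_of_degree_lt] <;> rw [Polynomial.degree_X_pow]
    exact hdeg)
  refine le_antisymm (fun g hg => ?_) ((Ideal.span_singleton_le_iff_mem _).2 hfe)
  rw [Ideal.mem_span_singleton, ← Polynomial.modByMonic_eq_zero_iff_dvd hmon]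
  have hr : Polynomial.aeval (orthElt a x μ s : AS p (fun i => μ * a i) x) (g %ₘ f) = 0 := by
    rw [Polynomial.modByMonic_eq_sub_mul_div, map_sub, map_mul, hfe, zero_mul, sub_zero]
    exact hg
  have hlt : (g %ₘ f).natDegree < p := hnd ▸ Polynomial.natDegree_modByMonic_lt g hmon (fun h => by
    rw [h, Polynomial.natDegree_one] at hnd; exact hp.out.ne_zero hnd.symm)
  rw [Polynomial.aeval_eq_sum_range' hlt, Finset.sum_range] at hr
  refine Polynomial.ext fun m => ?_
  rw [Polynomial.coeff_zero]
  rcases Nat.lt_or_ge m p with hm | hm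
  · have h1 := congrArg (fun z => basis.repr z (deltaExp i ⟨m, hm⟩)) hr
    simp only [map_zero, Finsupp.zero_apply] at h1
    rw [repr_sum_orthElt a x μ s i (fun l : Fin p => (g %ₘ f).coeff l) ⟨m, hm⟩] at h1
    refine (mul_eq_zero.1 h1).resolve_right (pow_ne_zero _ (mul_ne_zero (prime_ne_zero (hi)) ?_))
    exact Finset.prod_ne_zero_iff.2 fun l _ => ha l
  · exact Polynomial.coeff_eq_zero_of_natDegree_lt (lt_of_lt_of_le hlt hm)

omit [Fintype ι] [DecidableEq ι] hp [CharP R p] in
theorem dvd_of_forall_dvd_mul [UniqueFactorizationMonoid R] {κ : Type*} (T : Finset κ) (hT : T.Nonempty)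
    (β : κ → R) (hβ : ∀ q, Prime q → ∃ j ∈ T, ¬ q ∣ β j) {d : R} (hd : d ≠ 0) :
    ∀ g : R, (∀ j ∈ T, d ∣ g * β j) → d ∣ g := by
  induction d using UniqueFactorizationMonoid.induction_on_prime with
  | h₁ => exact absurd rfl hd
  | h₂ d hdu => exact fun g _ => hdu.dvd
  | h₃ d q hd0 hq ih =>
    intro g h
    obtain ⟨j, hjT, hj⟩ := hβ q hq
    obtain ⟨g', rfl⟩ := (hq.dvd_or_dvd ((dvd_mul_right q d).trans (h j hjT))).resolve_right hj
    refine mul_dvd_mul_left q (ih hd0 g' fun j hj => ?_)
    exact (mul_dvd_mul_iff_left hq.ne_zero).1 (by simpa [mul_assoc] using h j hj)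

variable [IsNoetherianRing R] [UniqueFactorizationMonoid R] [IsDomain (AS p (fun i => μ * a i) x)]

theorem fixed_iff_mem_range (ha : ∀ i, a i ≠ 0) (hcop : ∀ i l, i ≠ l → IsRelPrime (a i) (a l))
    (hμ : μ ≠ 0) (hs : s ≠ 0) (t : AS p (fun i => μ * a i) x) :
    (∀ ν : ι → ZMod p, ∑ i, ν i * s i = 0 → tr ν t = t) ↔
      t ∈ (Polynomial.aeval (orthElt a x μ s : AS p (fun i => μ * a i) x) : Polynomial R →ₐ[R] _).range := by
  constructor
  swap
  · rintro ⟨q, rfl⟩ ν hν
    show tr ν (Polynomial.aeval (orthElt a x μ s) q) = Polynomial.aeval (orthElt a x μ s) q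
    rw [← Polynomial.aeval_algHom_apply, tr_orthElt, hν, map_zero, mul_zero, map_zero, add_zero]
  intro hfix
  obtain ⟨i₁, hi₁⟩ := Function.ne_iff.1 hs
  let γ : R := prime p R (s i₁) * coRoot a s i₁
  have hγ : γ ≠ 0 := mul_ne_zero (prime_ne_zero hi₁) (Finset.prod_ne_zero_iff.2 fun l _ => ha l)
  let a' : ι → R := fun i => if i = i₁ then μ * supRoot a s else μ * a i
  let c' : ι → R := fun i => if i = i₁ then
    ∑ i ∈ Finset.univ.filter (fun i => s i ≠ 0), prime p R (s i) * coRoot a s i ^ p * x i else x i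
  let Φ : AS p a' c' →ₐ[R] AS p (fun i => μ * a i) x :=
    lift (fun i => if i = i₁ then orthElt a x μ s else u i) fun i => by
      rcases eq_or_ne i i₁ with rfl | hi
      · simp only [a', c', if_pos]; exact orthElt_pow a x μ s
      · simp only [a', c', if_neg hi]; exact u_pow i
  have hΦ1 : Φ (u i₁) = orthElt a x μ s := by simp [Φ]
  have hΦj : ∀ i, i ≠ i₁ → Φ (u i) = u i := fun i hi => by simp [Φ, hi]
  have hu : ∀ i, algebraMap R _ γ * u i ∈ Φ.range := by
    intro i
    rcases eq_or_ne i i₁ with rfl | hi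
    · rw [show algebraMap R _ γ * u i = orthElt a x μ s - ∑ l ∈ (Finset.univ.filter fun l => s l ≠ 0).erase i,
        algebraMap R (AS p (fun i => μ * a i) x) (prime p R (s l) * coRoot a s l) * u l by
          rw [orthElt, ← Finset.add_sum_erase _ _ (show i ∈ Finset.univ.filter (fun l => s l ≠ 0) by simpa using hi₁)]
          simp [γ]]
      refine sub_mem ⟨u i, hΦ1⟩ (Subalgebra.sum_mem _ fun l hl => ?_)
      exact mul_mem (Subalgebra.algebraMap_mem _ _) ⟨u l, hΦj l (Finset.ne_of_mem_erase hl)⟩
    · exact mul_mem (Subalgebra.algebraMap_mem _ _) ⟨u i, hΦj i hi⟩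
  have hΦ : Function.Injective Φ := injective_of_smul_u_mem_range Φ hu hγ
  obtain ⟨N, w, hw⟩ := exists_pow_smul_mem_range Φ hu t
  simp only [AlgHom.toRingHom_eq_coe, RingHom.coe_coe] at hw
  have hsupp : ∀ (e : ι → Fin p) (l : ι), l ≠ i₁ → (e l : ℕ) ≠ 0 → basis.repr w e = 0 := by
    intro e l hl he
    let ν : ι → ZMod p := Pi.single l 1 + Pi.single i₁ (-(s l / s i₁))
    have hν : ∑ i, ν i * s i = 0 := by
      simp only [ν, Pi.add_apply, add_mul, Finset.sum_add_distrib, Pi.single_apply, ite_mul, zero_mul,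
        Finset.sum_ite_eq', Finset.mem_univ, if_true]
      rw [neg_mul, div_mul_cancel₀ _ hi₁]
      ring
    let T : AS p a' c' →ₐ[R] AS p a' c' := tr (Pi.single l 1)
    have hcomm : Φ.comp T = (tr ν).comp Φ := by
      refine algHom_ext fun i => ?_
      simp only [AlgHom.comp_apply, T, tr_u, map_add, AlgHom.commutes]
      rcases eq_or_ne i i₁ with rfl | hi
      · rw [hΦ1, tr_orthElt, hν, Pi.single_eq_of_ne (Ne.symm hl)]
        simp
      · rw [hΦj i hi, tr_u]
        simp [ν, a', hi]
    have hTw : T w = w := hΦ (by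
      have h1 := DFunLike.congr_fun hcomm w
      simp only [AlgHom.comp_apply] at h1
      rw [h1, hw, map_smul, hfix ν hν])
    exact repr_eq_zero_of_fixed (b := μ * a l) (mul_ne_zero hμ (ha l)) T (by simp [T, a', hl])
      (fun i hi => by simp [T, hi]) hTw he
  let g : Fin p → R := fun m => basis.repr w (deltaExp i₁ m)
  have hsum : γ ^ N • t = ∑ m : Fin p, g m • (orthElt a x μ s : AS p (fun i => μ * a i) x) ^ (m : ℕ) := by
    rw [← hw]
    conv_lhs => rw [← basis.sum_repr w]
    rw [map_sum]
    have hinj : Function.Injective (deltaExp (ι := ι) (p := p) i₁) := fun m m' h => by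
      have h1 := congrFun h i₁
      simpa [deltaExp] using h1
    rw [← Finset.sum_subset (Finset.subset_univ (Finset.univ.image (deltaExp (p := p) i₁))),
      Finset.sum_image fun m _ m' _ h => hinj h]
    · refine Finset.sum_congr rfl fun m _ => ?_
      rw [map_smul, basis_apply, mon, ← Finset.mul_prod_erase _ _ (Finset.mem_univ i₁),
        Finset.prod_eq_one fun i hi => by
          rw [deltaExp, Function.update_of_ne (Finset.ne_of_mem_erase hi), pow_zero]]
      simp [deltaExp, hΦ1, g]
    · intro e _ he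
      obtain ⟨l, hl, hel⟩ : ∃ l, l ≠ i₁ ∧ (e l : ℕ) ≠ 0 := by
        by_contra hcon
        push Not at hcon
        refine he (Finset.mem_image.2 ⟨e i₁, Finset.mem_univ _, funext fun i => ?_⟩)
        rcases eq_or_ne i i₁ with rfl | hi
        · simp [deltaExp]
        · exact Fin.ext (by simp [deltaExp, hi, hcon i hi])
      rw [map_smul, hsupp e l hl hel]
      exact zero_smul R _
  have hdiv : ∀ m, γ ^ N ∣ g m := by
    intro m
    let T := Finset.univ.filter fun i => s i ≠ 0
    have hunit : ∀ j ∈ T, IsUnit (prime p R (s j) ^ (m : ℕ)) := fun j hj =>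
      (isUnit_prime (Finset.mem_filter.1 hj).2).pow _
    refine dvd_of_forall_dvd_mul T ⟨i₁, by simpa [T] using hi₁⟩ (fun j => coRoot a s j ^ (m : ℕ)) ?_
      (pow_ne_zero N hγ) _ fun j hj => ?_
    · intro q hq
      by_contra hcon
      push Not at hcon
      have hdiv : ∀ j ∈ T, ∃ l ∈ T, l ≠ j ∧ q ∣ a l := fun j hj => by
        obtain ⟨l, hl, hql⟩ := hq.exists_mem_finset_dvd (hq.dvd_of_dvd_pow (hcon j hj))
        exact ⟨l, (Finset.mem_erase.1 hl).2, (Finset.mem_erase.1 hl).1, hql⟩
      obtain ⟨l, hlT, -, hql⟩ := hdiv i₁ (by simpa [T] using hi₁)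
      obtain ⟨l', -, hne, hql'⟩ := hdiv l hlT
      exact hq.not_unit (hcop l l' hne.symm hql hql')
    · have h1 := congrArg (fun z => basis.repr z (deltaExp j m)) hsum
      simp only [map_smul, Finsupp.smul_apply, smul_eq_mul] at h1
      rw [repr_sum_orthElt a x μ s j g m] at h1
      have h2 : γ ^ N ∣ prime p R (s j) ^ (m : ℕ) * (g m * coRoot a s j ^ (m : ℕ)) :=
        ⟨_, by rw [h1]; ring⟩
      exact (IsUnit.dvd_mul_left (hunit j hj)).1 h2
  choose h hh using hdiv
  refine ⟨∑ m : Fin p, Polynomial.C (h m) * Polynomial.X ^ (m : ℕ), ?_⟩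
  simp only [AlgHom.toRingHom_eq_coe, RingHom.coe_coe, map_sum, map_mul, map_pow, Polynomial.aeval_C,
    Polynomial.aeval_X]
  refine mul_left_cancel₀ (show algebraMap R (AS p (fun i => μ * a i) x) (γ ^ N) ≠ 0 from
    (map_ne_zero_iff _ algebraMap_injective).2 (pow_ne_zero N hγ)) ?_
  rw [← smul_eq _ t, hsum, Finset.mul_sum]
  refine Finset.sum_congr rfl fun m _ => ?_
  rw [smul_eq, hh m, map_mul, mul_assoc]

end Ortho

end WildASLib
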