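import Groth.Agent.WildASLib.Local
import Groth.Agent.WildASLib.Auts
import Mathlib.RingTheory.LocalRing.Length
import Mathlib.RingTheory.Nakayama
import Mathlib.LinearAlgebra.TensorProduct.Quotient
import Mathlib.LinearAlgebra.TensorProduct.Pi

/-!
# The fixed-point ideal of a translation of the Artin–Schreier family
-/

set_option autoImplicit false

universe u v

open MvPolynomial IsLocalRing TensorProduct

namespace WildASLib

section General

variable {R : Type u} [CommRing R] {ι : Type v} {p : ℕ} {a c : ι → R}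

theorem span_sub_eq (σ : AS p a c ≃ₐ[R] AS p a c) {b : ι → R}
    (hσ : ∀ i, σ (u i) = u i + algebraMap R _ (b i)) :
    Ideal.span (Set.range fun t : AS p a c => σ t - t) =
      (Ideal.span (Set.range b)).map (algebraMap R (AS p a c)) := by
  rw [Ideal.map_span, ← Set.range_comp]
  refine le_antisymm (Ideal.span_le.2 ?_) (Ideal.span_le.2 ?_)
  · rintro _ ⟨t, rfl⟩
    induction t using induction_u with
    | hC r => simp
    | hadd x y hx hy => simp only [map_add, add_sub_add_comm]; exact add_mem hx hy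
    | hu x i hx =>
      simp only [map_mul, hσ]
      rw [show σ x * (u i + algebraMap R _ (b i)) - x * u i =
        (σ x - x) * u i + σ x * algebraMap R _ (b i) by ring]
      exact add_mem (Ideal.mul_mem_right _ _ hx) (Ideal.mul_mem_left _ _ (Ideal.subset_span ⟨i, rfl⟩))
  · rintro _ ⟨i, rfl⟩
    exact Ideal.subset_span ⟨u i, by simp [hσ]⟩

/-- Lengths after base change to the Artin–Schreier algebra. -/
theorem length_quotient_map [Fintype ι] [Fact p.Prime] (J : Ideal R) :
    Module.length R (AS p a c ⧸ J.map (algebraMap R (AS p a c))) =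
      (p ^ Fintype.card ι : ℕ∞) * Module.length R (R ⧸ J) := by
  classical
  let e₁ : (R ⧸ J) ⊗[R] (AS p a c) ≃ₗ[R] AS p a c ⧸ (J • ⊤ : Submodule R (AS p a c)) :=
    TensorProduct.quotTensorEquivQuotSMul (AS p a c) J
  let e₂ : ((AS p a c) ⧸ (J • ⊤ : Submodule R (AS p a c))) ≃ₗ[R]
      ((AS p a c) ⧸ Submodule.restrictScalars R (J.map (algebraMap R (AS p a c)))) :=
    Submodule.quotEquivOfEq _ _ (Ideal.smul_top_eq_map J)
  let e₃ := Submodule.Quotient.restrictScalarsEquiv R (J.map (algebraMap R (AS p a c)))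
  let e₄ : (R ⧸ J) ⊗[R] (AS p a c) ≃ₗ[R] ((ι → Fin p) → R ⧸ J) :=
    (TensorProduct.congr (LinearEquiv.refl R _) basis.equivFun).trans
      (TensorProduct.piScalarRight R R (R ⧸ J) (ι → Fin p))
  refine ((((e₁.trans e₂).trans e₃).symm.trans e₄).length_eq).trans ?_
  rw [Module.length_pi_of_fintype, Finset.sum_const, Finset.card_univ, Fintype.card_fun,
    Fintype.card_fin, nsmul_eq_mul, Nat.cast_pow]

end General

section Fam

variable {p : ℕ} [hp : Fact p.Prime] {k : Type u} [Field k] {n : ℕ}
  {a : Fin n → MvPowerSeries (Fin n) k} (ham : ∀ i, MvPowerSeries.constantCoeff (a i) = 0)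

include ham in
theorem map_maximalIdeal_le_pow : (maximalIdeal (MvPowerSeries (Fin n) k)).map
    (algebraMap _ (Fam p k n a)) ≤ uIdeal p k n a ^ p := by
  set 𝔵 := (maximalIdeal (MvPowerSeries (Fin n) k)).map (algebraMap _ (Fam p k n a)) with h𝔵
  haveI := isLocalRing (p := p) ham
  refine Submodule.le_of_le_smul_of_le_jacobson_bot (R := Fam p k n a) (I := uIdeal p k n a)
    (N := uIdeal p k n a ^ p) (N' := 𝔵) ?_ ?_ ?_
  · exact Ideal.FG.map (IsNoetherian.noetherian _) _
  · rw [IsLocalRing.jacobson_eq_maximalIdeal ⊥ bot_ne_top, ← IsLocalRing.eq_maximalIdeal isMaximal_uIdeal]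
  · conv_lhs => rw [h𝔵]
    rw [CohenLib.maximalIdeal_mvPowerSeries_field, CohenLib.varsIdeal, Ideal.map_span, Ideal.span_le]
    rintro _ ⟨_, ⟨i, rfl⟩, rfl⟩
    have h := u_pow (p := p) (a := a) (c := fun i : Fin n => MvPowerSeries.X i) i
    rw [SetLike.mem_coe, eq_sub_iff_add_eq'.2 h.symm, sub_eq_add_neg]
    refine add_mem (Ideal.mem_sup_left (Ideal.pow_mem_pow (u_mem i) p)) (Ideal.mem_sup_right ?_)
    refine neg_mem ?_
    rw [mul_comm, smul_eq_mul]
    refine Ideal.mul_mem_mul (u_mem i) (Ideal.mem_map_of_mem _ ?_)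
    rw [CohenLib.maximalIdeal_mvPowerSeries_field, ← CohenLib.ker_constantCoeff, RingHom.mem_ker,
      map_pow, ham i, zero_pow]
    have := hp.out.two_le
    omega

include ham in
theorem fixed_ideal (σ : Fam p k n a ≃ₐ[MvPowerSeries (Fin n) k] Fam p k n a)
    (hσ : ∀ i, σ (u i) = u i + algebraMap _ _ (a i)) :
    Ideal.span (Set.range fun t : Fam p k n a => σ t - t) ≤ uIdeal p k n a ^ p ∧
      Module.length (Fam p k n a) (Fam p k n a ⧸ Ideal.span (Set.range fun t : Fam p k n a => σ t - t)) =
        (p ^ n : ℕ∞) * Module.length (MvPowerSeries (Fin n) k)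
          (MvPowerSeries (Fin n) k ⧸ Ideal.span (Set.range a)) := by
  rw [span_sub_eq σ hσ]
  have hJ : Ideal.span (Set.range a) ≤ maximalIdeal (MvPowerSeries (Fin n) k) := by
    rw [CohenLib.maximalIdeal_mvPowerSeries_field, ← CohenLib.ker_constantCoeff, Ideal.span_le]
    rintro _ ⟨i, rfl⟩
    exact ham i
  refine ⟨(Ideal.map_mono hJ).trans (map_maximalIdeal_le_pow ham), ?_⟩
  haveI := isLocalRing (p := p) ham
  haveI : IsLocalHom (algebraMap (MvPowerSeries (Fin n) k) (Fam p k n a)) := by
    refine ((IsLocalRing.local_hom_TFAE _).out 0 3).2 ?_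
    intro x hx
    rw [Ideal.mem_comap, ← IsLocalRing.eq_maximalIdeal (isMaximal_uIdeal (p := p) (a := a))]
    exact map_maximalIdeal_le (Ideal.mem_map_of_mem _ hx)
  have hres : Module.length (ResidueField (MvPowerSeries (Fin n) k)) (ResidueField (Fam p k n a)) = 1 := by
    have hbij : Function.Bijective
        (algebraMap (ResidueField (MvPowerSeries (Fin n) k)) (ResidueField (Fam p k n a))) := by
      refine ⟨RingHom.injective _, fun y => ?_⟩
      obtain ⟨x, rfl⟩ := IsLocalRing.residue_surjective y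
      obtain ⟨r, hr⟩ := exists_sub_mem x
      refine ⟨IsLocalRing.residue _ r, ?_⟩
      rw [IsLocalRing.ResidueField.algebraMap_residue, eq_comm, ← sub_eq_zero, ← map_sub,
        IsLocalRing.residue_eq_zero_iff, ← IsLocalRing.eq_maximalIdeal isMaximal_uIdeal]
      exact hr
    rw [← (LinearEquiv.ofBijective (Algebra.linearMap _ _) hbij).length_eq]
    exact Module.length_eq_one _ _
  have h := IsLocalRing.length_restrictScalars (MvPowerSeries (Fin n) k) (Fam p k n a)
    (Fam p k n a ⧸ (Ideal.span (Set.range a)).map (algebraMap _ (Fam p k n a)))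
  rw [hres, mul_one] at h
  rw [← h, length_quotient_map, Fintype.card_fin]

end Fam

end WildASLib
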