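import Mathlib.RingTheory.AdjoinRoot
import Mathlib.RingTheory.AlgebraTower
import Mathlib.RingTheory.MvPolynomial.Basic
import Mathlib.LinearAlgebra.Dimension.Free
import Mathlib.Algebra.Polynomial.Degree.Lemmas
import Mathlib.Algebra.CharP.Basic

/-!
# The Artin–Schreier algebra `R[uᵢ]/(uᵢ^p - aᵢ^(p-1) uᵢ - cᵢ)`
-/

set_option autoImplicit false

universe u v

open MvPolynomial

namespace WildASLib

variable {R : Type u} [CommRing R] {ι : Type v} (p : ℕ) (a c : ι → R)

/-- The relations. -/
noncomputable abbrev rel : Ideal (MvPolynomial ι R) :=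
  Ideal.span (Set.range fun i => X i ^ p - C (a i ^ (p - 1)) * X i - C (c i))

/-- The algebra. -/
abbrev AS := MvPolynomial ι R ⧸ rel p a c

variable {p a c}

/-- The generators. -/
noncomputable def u (i : ι) : AS p a c := Ideal.Quotient.mk _ (X i)

theorem mk_C (r : R) : Ideal.Quotient.mk (rel p a c) (C r) = algebraMap R (AS p a c) r := rfl

theorem u_pow (i : ι) : (u i : AS p a c) ^ p =
    algebraMap R (AS p a c) (a i ^ (p - 1)) * u i + algebraMap R (AS p a c) (c i) := by
  rw [← sub_eq_zero, u, ← mk_C, ← mk_C, ← map_pow, ← map_mul, ← map_add, ← map_sub,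
    Ideal.Quotient.eq_zero_iff_mem]
  refine Ideal.subset_span ⟨i, ?_⟩
  ring

section Lift

variable {B : Type*} [CommRing B] [Algebra R B] (f : ι → B)
  (hf : ∀ i, f i ^ p = algebraMap R B (a i ^ (p - 1)) * f i + algebraMap R B (c i))

/-- Maps out of the algebra are roots of the relations. -/
noncomputable def lift : AS p a c →ₐ[R] B :=
  Ideal.Quotient.liftₐ (rel p a c) (aeval f) fun q hq => by
    have h : rel p a c ≤ RingHom.ker (aeval f).toRingHom := by
      refine Ideal.span_le.2 ?_
      rintro _ ⟨i, rfl⟩
      rw [SetLike.mem_coe, RingHom.mem_ker]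
      simp only [AlgHom.toRingHom_eq_coe, RingHom.coe_coe, map_sub, map_mul, map_pow, aeval_X, aeval_C]
      rw [hf i, map_pow]
      ring
    exact h hq

@[simp] theorem lift_u (i : ι) : lift f hf (u i) = f i := by
  show aeval f (X i) = f i
  simp

end Lift

theorem algHom_ext {B : Type*} [Semiring B] [Algebra R B] {φ ψ : AS p a c →ₐ[R] B}
    (h : ∀ i, φ (u i) = ψ (u i)) : φ = ψ := by
  refine Ideal.Quotient.algHom_ext R (MvPolynomial.algHom_ext fun i => ?_)
  exact h i

theorem adjoin_range_u : Algebra.adjoin R (Set.range (u : ι → AS p a c)) = ⊤ := by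
  have h := congrArg (Subalgebra.map (Ideal.Quotient.mkₐ R (rel p a c)))
    (MvPolynomial.adjoin_range_X (R := R) (σ := ι))
  rw [AlgHom.map_adjoin, ← Set.range_comp, Algebra.map_top] at h
  refine h.trans ?_
  exact (AlgHom.range_eq_top _).2 (Ideal.Quotient.mkₐ_surjective R _)

/-- Induction along the generators. -/
@[elab_as_elim]
theorem induction_u {P : AS p a c → Prop} (x : AS p a c) (hC : ∀ r, P (algebraMap R _ r))
    (hadd : ∀ x y, P x → P y → P (x + y)) (hu : ∀ x i, P x → P (x * u i)) : P x := by
  obtain ⟨q, rfl⟩ := Ideal.Quotient.mk_surjective x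
  induction q using MvPolynomial.induction_on with
  | C r => exact hC r
  | add q r hq hr => rw [map_add]; exact hadd _ _ hq hr
  | mul_X q i hq => rw [map_mul]; exact hu _ i hq

section Monomials

variable [Fintype ι]

/-- The monomials of the basis. -/
noncomputable def mon (e : ι → Fin p) : AS p a c := ∏ i, u i ^ (e i : ℕ)

variable [hp : Fact p.Prime]

theorem mon_mul_u_mem (e : ι → Fin p) (i : ι) :
    (mon e * u i : AS p a c) ∈ Submodule.span R (Set.range (mon : (ι → Fin p) → AS p a c)) := by
  classical
  have hp2 : 2 ≤ p := hp.out.two_le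
  have hfac : ∀ f : ι → Fin p,
      (mon f : AS p a c) = (∏ j ∈ Finset.univ.erase i, u j ^ (f j : ℕ)) * u i ^ (f i : ℕ) := fun f => by
    rw [mon, Finset.prod_erase_mul _ _ (Finset.mem_univ i)]
  have hupd : ∀ (m : Fin p), (mon (Function.update e i m) : AS p a c) =
      (∏ j ∈ Finset.univ.erase i, u j ^ (e j : ℕ)) * u i ^ (m : ℕ) := fun m => by
    rw [hfac, Function.update_self]
    refine congrArg (· * _) (Finset.prod_congr rfl fun j hj => ?_)
    rw [Function.update_of_ne (Finset.ne_of_mem_erase hj)]
  rw [hfac e, mul_assoc, ← pow_succ]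
  rcases Nat.lt_or_ge ((e i : ℕ) + 1) p with hlt | hge
  · exact Submodule.subset_span ⟨Function.update e i ⟨_, hlt⟩, hupd _⟩
  · have he : (e i : ℕ) + 1 = p := le_antisymm (e i).isLt hge
    rw [he, u_pow, mul_add, ← mul_assoc, mul_comm (∏ j ∈ _, _) (algebraMap R _ (a i ^ (p - 1))), mul_assoc,
      mul_comm (∏ j ∈ _, _) (algebraMap R _ (c i)), ← Algebra.smul_def, ← Algebra.smul_def]
    refine add_mem (Submodule.smul_mem _ _ (Submodule.subset_span
      ⟨Function.update e i ⟨1, hp2⟩, ?_⟩)) (Submodule.smul_mem _ _ (Submodule.subset_span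
      ⟨Function.update e i ⟨0, by omega⟩, ?_⟩))
    · rw [hupd]; simp
    · rw [hupd]; simp

theorem span_mon : Submodule.span R (Set.range (mon : (ι → Fin p) → AS p a c)) = ⊤ := by
  refine Submodule.eq_top_iff'.2 fun x => ?_
  induction x using induction_u with
  | hC r =>
    rw [Algebra.algebraMap_eq_smul_one]
    refine Submodule.smul_mem _ _ (Submodule.subset_span ⟨fun _ => ⟨0, hp.out.pos⟩, ?_⟩)
    simp [mon]
  | hadd x y hx hy => exact add_mem hx hy
  | hu x i hx =>
    induction hx using Submodule.span_induction with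
    | mem y hy => obtain ⟨e, rfl⟩ := hy; exact mon_mul_u_mem e i
    | zero => rw [zero_mul]; exact zero_mem _
    | add y z _ _ hy hz => rw [add_mul]; exact add_mem hy hz
    | smul r y _ hy => rw [smul_mul_assoc]; exact Submodule.smul_mem _ r hy

theorem linearIndependent_fin : ∀ (n : ℕ) (a c : Fin n → R),
    LinearIndependent R (mon : (Fin n → Fin p) → AS p a c)
  | 0, a, c => by
    refine Fintype.linearIndependent_iff.2 fun g hg e => ?_
    have h1 := congrArg (lift (p := p) (a := a) (c := c) (B := R) (fun i => i.elim0) fun i => i.elim0) hg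
    simp only [map_sum, map_smul, mon, Finset.univ_eq_empty, Finset.prod_empty, map_one, smul_eq_mul,
      mul_one, map_zero] at h1
    rwa [Fintype.sum_subsingleton _ e] at h1
  | n + 1, a, c => by
    nontriviality R
    have ih := linearIndependent_fin n (fun i => a i.succ) (fun i => c i.succ)
    let A' := AS p (fun i : Fin n => a i.succ) (fun i => c i.succ)
    haveI : Nontrivial A' := ⟨mon (fun _ => (⟨0, hp.out.pos⟩ : Fin p)), 0, ih.ne_zero _⟩
    let g : Polynomial A' := Polynomial.C (algebraMap R A' (a 0 ^ (p - 1))) * Polynomial.X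
      + Polynomial.C (algebraMap R A' (c 0))
    let f : Polynomial A' := Polynomial.X ^ p - g
    have hg : g.degree < p := by
      refine lt_of_le_of_lt Polynomial.degree_linear_le ?_
      exact_mod_cast hp.out.one_lt
    have hf : f.Monic := Polynomial.monic_X_pow_sub hg
    have hdeg : f.natDegree = p := Polynomial.natDegree_eq_of_degree_eq_some (by
      rw [Polynomial.degree_sub_eq_left_of_degree_lt] <;> rw [Polynomial.degree_X_pow]
      exact hg)
    let Φ : AS p a c →ₐ[R] AdjoinRoot f :=
      lift (Fin.cons (AdjoinRoot.root f) fun i => algebraMap A' (AdjoinRoot f) (u i)) fun i => by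
        refine Fin.cases ?_ (fun j => ?_) i
        · have h : AdjoinRoot.mk f f = 0 := AdjoinRoot.mk_self
          rw [Fin.cons_zero, IsScalarTower.algebraMap_apply R A' (AdjoinRoot f) (a 0 ^ (p - 1)),
            IsScalarTower.algebraMap_apply R A' (AdjoinRoot f) (c 0)]
          conv at h => lhs; arg 2; simp only [f, g]
          simp only [map_sub, map_add, map_mul, map_pow (AdjoinRoot.mk f), AdjoinRoot.mk_X,
            AdjoinRoot.mk_C] at h
          rw [sub_eq_zero] at h
          exact h
        · rw [Fin.cons_succ, ← map_pow, u_pow, map_add, map_mul, ← IsScalarTower.algebraMap_apply,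
            ← IsScalarTower.algebraMap_apply]
    have hroot : LinearIndependent A' fun j : Fin p => AdjoinRoot.root f ^ (j : ℕ) := by
      have h := (AdjoinRoot.powerBasis' hf).basis.linearIndependent
      rw [PowerBasis.coe_basis, AdjoinRoot.powerBasis'_gen] at h
      exact h.comp (Fin.cast (by rw [AdjoinRoot.powerBasis'_dim, hdeg]) : Fin p → _)
        (Fin.cast_injective _)
    refine LinearIndependent.of_comp Φ.toLinearMap ?_
    have h2 := (linearIndependent_smul ih hroot).comp (fun e : Fin (n + 1) → Fin p => (Fin.tail e, e 0))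
      fun e e' h => by
        have h' := Prod.ext_iff.1 h
        rw [← Fin.cons_self_tail e, ← Fin.cons_self_tail e']
        exact congrArg₂ Fin.cons h'.2 h'.1
    convert h2 using 1
    funext e
    simp only [Function.comp_apply, AlgHom.toLinearMap_apply, mon, map_mul, map_prod, map_pow, Φ,
      lift_u, Fin.prod_univ_succ, Fin.cons_zero, Fin.cons_succ, Fin.tail, Algebra.smul_def]
    exact mul_comm _ _

theorem linearIndependent_mon : LinearIndependent R (mon : (ι → Fin p) → AS p a c) := by
  let e := Fintype.equivFin ι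
  let Ψ : AS p a c →ₐ[R] AS p (fun j => a (e.symm j)) (fun j => c (e.symm j)) :=
    lift (fun i => u (e i)) fun i => by rw [u_pow]; simp
  refine LinearIndependent.of_comp Ψ.toLinearMap ?_
  have h := (linearIndependent_fin (p := p) _ (fun j => a (e.symm j)) (fun j => c (e.symm j))).comp
    (fun g : ι → Fin p => g ∘ e.symm) fun g g' hgg => by
      funext i
      simpa using congrFun hgg (e i)
  have heq : ⇑Ψ.toLinearMap ∘ mon =
      ((mon : (Fin _ → Fin p) → AS p (fun j => a (e.symm j)) fun j => c (e.symm j)) ∘
        fun g : ι → Fin p => g ∘ e.symm) := by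
    funext g
    simp only [Function.comp_apply, AlgHom.toLinearMap_apply, mon, map_prod, map_pow, Ψ, lift_u]
    exact Fintype.prod_equiv e _ _ fun i => by simp
  rw [heq]; exact h

/-- The monomial basis. -/
noncomputable def basis : Module.Basis (ι → Fin p) R (AS p a c) :=
  Module.Basis.mk linearIndependent_mon span_mon.ge

@[simp] theorem basis_apply (e : ι → Fin p) : (basis e : AS p a c) = mon e := by simp [basis]

instance free : Module.Free R (AS p a c) := Module.Free.of_basis basis

instance finite : Module.Finite R (AS p a c) := Module.Finite.of_basis basis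

theorem finrank_eq [Nontrivial R] : Module.finrank R (AS p a c) = p ^ Fintype.card ι := by
  classical
  rw [Module.finrank_eq_card_basis basis, Fintype.card_fun, Fintype.card_fin]

theorem algebraMap_injective : Function.Injective (algebraMap R (AS p a c)) := by
  intro x y h
  have h2 : (basis fun _ => ⟨0, hp.out.pos⟩ : AS p a c) = 1 := by simp [mon]
  have h3 := congrArg (fun z => basis.repr z fun _ => ⟨0, hp.out.pos⟩) h
  simpa [Algebra.algebraMap_eq_smul_one, ← h2, -basis_apply] using h3

end Monomials

end WildASLib
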